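import Groth.Agent.CSA.SkolemNoether
import Groth.Prelude.Def_GSzCSA
import Mathlib.LinearAlgebra.Charpoly.BaseChange
import Mathlib.LinearAlgebra.Matrix.Charpoly.Coeff
import Mathlib.LinearAlgebra.Matrix.Kronecker
import Mathlib.FieldTheory.IsAlgClosed.AlgebraicClosure
import Mathlib.RingTheory.Norm.Basic
import Mathlib.RingTheory.Trace.Basic
import Mathlib.RingTheory.UniqueFactorizationDomain.Multiplicity
import Mathlib.RingTheory.Polynomial.UniqueFactorization
/-! # The reduced characteristic polynomial, norm and trace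

A representation of degree `n` of a central simple algebra `A` of dimension `n²` is any
`k`-algebra map `A → M_n(L)`, `L` a field. By Skolem–Noether all of them agree up to conjugation. -/

universe u v w x y

open scoped TensorProduct Kronecker
open Polynomial

namespace Groth.CSA

section kronecker

variable {R : Type*} [CommRing R] {m n : Type*} [Fintype m] [DecidableEq m] [Fintype n] [DecidableEq n]

theorem charpoly_kronecker_one (M : Matrix m m R) :
    (M ⊗ₖ (1 : Matrix n n R)).charpoly = M.charpoly ^ Fintype.card n := by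
  have h : Matrix.charmatrix (M ⊗ₖ (1 : Matrix n n R)) = Matrix.charmatrix M ⊗ₖ (1 : Matrix n n R[X]) := by
    ext ⟨i, a⟩ ⟨j, b⟩ : 2
    rcases eq_or_ne a b with rfl | hab <;> rcases eq_or_ne i j with rfl | hij <;>
      simp_all [Matrix.charmatrix_apply, Matrix.one_apply]
  rw [Matrix.charpoly, h, Matrix.det_kronecker, Matrix.det_one, one_pow, mul_one, Matrix.charpoly]

theorem charpoly_one_kronecker (M : Matrix m m R) :
    ((1 : Matrix n n R) ⊗ₖ M).charpoly = M.charpoly ^ Fintype.card n := by
  have h : Matrix.charmatrix ((1 : Matrix n n R) ⊗ₖ M) = (1 : Matrix n n R[X]) ⊗ₖ Matrix.charmatrix M := by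
    ext ⟨a, i⟩ ⟨b, j⟩ : 2
    rcases eq_or_ne a b with rfl | hab <;> rcases eq_or_ne i j with rfl | hij <;>
      simp_all [Matrix.charmatrix_apply, Matrix.one_apply]
  rw [Matrix.charpoly, h, Matrix.det_kronecker, Matrix.det_one, one_pow, one_mul, Matrix.charpoly]

theorem toMatrix_mulLeft_matrix (M : Matrix m m R) :
    LinearMap.toMatrix (Matrix.stdBasis R m m) (Matrix.stdBasis R m m) (LinearMap.mulLeft R M) =
      M ⊗ₖ (1 : Matrix m m R) := by
  ext ⟨i, j⟩ ⟨p, q⟩
  rw [LinearMap.toMatrix_apply, Matrix.stdBasis_eq_single, LinearMap.mulLeft_apply]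
  simp only [Matrix.kroneckerMap_apply]
  rw [show ∀ N : Matrix m m R, (Matrix.stdBasis R m m).repr N (i, j) = N i j from fun N => by
    simp [Matrix.stdBasis]]
  rcases eq_or_ne j q with rfl | h
  · simp [Matrix.single, Matrix.mul_apply]
  · simp [Matrix.single, Matrix.mul_apply, Matrix.one_apply, h, Ne.symm h]

theorem charpoly_mulLeft_matrix (M : Matrix m m R) :
    (LinearMap.mulLeft R M).charpoly = M.charpoly ^ Fintype.card m := by
  nontriviality R
  rw [← LinearMap.charpoly_toMatrix _ (Matrix.stdBasis R m m), toMatrix_mulLeft_matrix, charpoly_kronecker_one]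

end kronecker

section rep

variable (k : Type u) [Field k] {A : Type v} [Ring A] [Algebra k A]
  [Algebra.IsCentral k A] [IsSimpleRing A] [FiniteDimensional k A]
  {L : Type w} [Field L] [Algebra k L] {ι : Type x} [Fintype ι] [DecidableEq ι]

omit [Algebra.IsCentral k A] [IsSimpleRing A] [FiniteDimensional k A] in
/-- The extension of a matrix representation to the base change. -/
noncomputable def repLift (f : A →ₐ[k] Matrix ι ι L) : L ⊗[k] A →ₐ[L] Matrix ι ι L :=
  Algebra.TensorProduct.lift (Algebra.ofId L _) f fun l a => Algebra.commute_algebraMap_left l (f a)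

omit [Algebra.IsCentral k A] [IsSimpleRing A] [FiniteDimensional k A] in
theorem repLift_one_tmul (f : A →ₐ[k] Matrix ι ι L) (a : A) : repLift k f (1 ⊗ₜ a) = f a := by
  simp [repLift]

omit [Algebra.IsCentral k A] [DecidableEq ι] in
theorem nonempty_of_rep (hd : Module.finrank k A = Fintype.card ι ^ 2) : Nonempty ι :=
  Fintype.card_pos_iff.1 (Nat.pos_of_ne_zero fun h => by
    have := Module.finrank_pos (R := k) (M := A)
    rw [hd, h] at this
    simp at this)

theorem repLift_bijective (f : A →ₐ[k] Matrix ι ι L)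
    (hd : Module.finrank k A = Fintype.card ι ^ 2) : Function.Bijective (repLift k f) := by
  have := isSimpleRing_baseChange k A L
  have := nonempty_of_rep k (A := A) hd
  have hinj : Function.Injective (repLift k f) := RingHom.injective (repLift k f).toRingHom
  exact ⟨hinj, (LinearMap.injective_iff_surjective_of_finrank_eq_finrank (f := (repLift k f).toLinearMap)
    (by rw [Module.finrank_baseChange, Module.finrank_matrix, hd, Module.finrank_self, mul_one, sq])).1 hinj⟩

/-- All representations of the right degree are conjugate. -/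
theorem exists_conj_of_rep (f g : A →ₐ[k] Matrix ι ι L) :
    ∃ P : (Matrix ι ι L)ˣ, ∀ a, f a = (P : Matrix ι ι L) * g a * (P⁻¹ : (Matrix ι ι L)ˣ) := by
  have := isSimpleRing_baseChange k A L
  rcases isEmpty_or_nonempty ι with hι | hι
  · exact ⟨1, fun _ => Subsingleton.elim _ _⟩
  obtain ⟨P, hP⟩ := skolem_noether L (repLift k f) (repLift k g)
  exact ⟨P, fun a => by rw [← repLift_one_tmul k f, hP, repLift_one_tmul]⟩

theorem charpoly_rep_eq (f g : A →ₐ[k] Matrix ι ι L) (a : A) : (f a).charpoly = (g a).charpoly := by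
  obtain ⟨P, hP⟩ := exists_conj_of_rep k f g
  rw [hP, Matrix.coe_units_inv, Matrix.charpoly_units_conj]

theorem det_rep_eq (f g : A →ₐ[k] Matrix ι ι L) (a : A) : (f a).det = (g a).det := by
  obtain ⟨P, hP⟩ := exists_conj_of_rep k f g
  rw [hP, Matrix.det_units_conj]

theorem trace_rep_eq (f g : A →ₐ[k] Matrix ι ι L) (a : A) : (f a).trace = (g a).trace := by
  obtain ⟨P, hP⟩ := exists_conj_of_rep k f g
  rw [hP, Matrix.trace_units_conj]

theorem charpoly_mulLeft_rep (f : A →ₐ[k] Matrix ι ι L)
    (hd : Module.finrank k A = Fintype.card ι ^ 2) (a : A) :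
    (LinearMap.mulLeft k a).charpoly.map (algebraMap k L) = (f a).charpoly ^ Fintype.card ι := by
  let φ := AlgEquiv.ofBijective (repLift k f) (repLift_bijective k f hd)
  have h1 : (LinearMap.mulLeft k a).baseChange L = LinearMap.mulLeft L ((1 : L) ⊗ₜ[k] a) := by
    ext x
    simp
  rw [← LinearMap.charpoly_baseChange, h1, ← LinearEquiv.charpoly_conj φ.toLinearEquiv, ← charpoly_mulLeft_matrix]
  congr 1
  refine LinearMap.ext fun M => ?_
  obtain ⟨y, rfl⟩ := φ.surjective M
  show φ (((1 : L) ⊗ₜ a) * φ.symm (φ y)) = f a * φ y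
  rw [AlgEquiv.symm_apply_apply, map_mul]
  exact congrArg (· * φ y) (repLift_one_tmul k f a)

end rep

section field

variable (k : Type u) [Field k] {A : Type v} [Ring A] [Algebra k A] (K : Type w) [Field K] [Algebra k K]

/-- The representation given by a splitting. -/
noncomputable def splitRep {n : ℕ} (φ : K ⊗[k] A ≃ₐ[K] Matrix (Fin n) (Fin n) K) : A →ₐ[k] Matrix (Fin n) (Fin n) K :=
  (φ.toAlgHom.restrictScalars k).comp Algebra.TensorProduct.includeRight

theorem splitRep_apply {n : ℕ} (φ : K ⊗[k] A ≃ₐ[K] Matrix (Fin n) (Fin n) K) (a : A) :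
    splitRep k K φ a = φ (1 ⊗ₜ a) := rfl

theorem finrank_eq_of_splitting [FiniteDimensional k A] {n : ℕ}
    (φ : K ⊗[k] A ≃ₐ[K] Matrix (Fin n) (Fin n) K) : Module.finrank k A = n ^ 2 := by
  rw [← Module.finrank_baseChange (R := K), φ.toLinearEquiv.finrank_eq, Module.finrank_matrix,
    Module.finrank_self, mul_one, Fintype.card_fin, sq]

variable [Algebra.IsCentral k A] [IsSimpleRing A] [FiniteDimensional k A]

/-- A splitting and any representation agree in a common extension. -/
theorem exists_common_rep [Module.Finite k K] {n : ℕ} (φ : K ⊗[k] A ≃ₐ[K] Matrix (Fin n) (Fin n) K)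
    {L : Type x} [Field L] [Algebra k L] {ι : Type y} [Fintype ι] [DecidableEq ι]
    (f : A →ₐ[k] Matrix ι ι L) (hd : Module.finrank k A = Fintype.card ι ^ 2) :
    ∃ (j : K →+* AlgebraicClosure L) (e : Fin n ≃ ι),
      (∀ r, j (algebraMap k K r) = algebraMap L (AlgebraicClosure L) (algebraMap k L r)) ∧
      ∀ a, ((f a).map (algebraMap L (AlgebraicClosure L))).charpoly = ((φ (1 ⊗ₜ a)).map j).charpoly ∧
        ((f a).map (algebraMap L (AlgebraicClosure L))).det = ((φ (1 ⊗ₜ a)).map j).det ∧
        ((f a).map (algebraMap L (AlgebraicClosure L))).trace = ((φ (1 ⊗ₜ a)).map j).trace := by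
  have hn : Fintype.card (Fin n) = Fintype.card ι := by
    rw [Fintype.card_fin]
    exact (Nat.pow_left_injective two_ne_zero) ((finrank_eq_of_splitting k K φ).symm.trans hd)
  let Ω := AlgebraicClosure L
  let j : K →ₐ[k] Ω := IsAlgClosed.lift
  let e := Fintype.equivOfCardEq hn
  refine ⟨j.toRingHom, e, fun r => (j.commutes r).trans (IsScalarTower.algebraMap_apply k L Ω r), fun a => ?_⟩
  let F : A →ₐ[k] Matrix ι ι Ω := (IsScalarTower.toAlgHom k L Ω).mapMatrix.comp f
  let G : A →ₐ[k] Matrix ι ι Ω :=
    (Matrix.reindexAlgEquiv k Ω e).toAlgHom.comp (j.mapMatrix.comp (splitRep k K φ))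
  have hG : G a = Matrix.reindex e e ((φ (1 ⊗ₜ a)).map j) := rfl
  refine ⟨?_, ?_, ?_⟩
  · refine (charpoly_rep_eq k F G a).trans ?_
    rw [hG, Matrix.charpoly_reindex]
    rfl
  · refine (det_rep_eq k F G a).trans ?_
    rw [hG, Matrix.det_reindex_self]
    rfl
  · refine (trace_rep_eq k F G a).trans ?_
    rw [hG]
    exact (Equiv.sum_comp e.symm fun i => (φ (1 ⊗ₜ a)).map j i i)

variable {k}
variable {L : Type x} [Field L] [Algebra k L] {ι : Type y} [Fintype ι] [DecidableEq ι]

/-- The reduced norm is the determinant in every representation of the right degree. -/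
theorem redNorm_eq_det {N : A →* k} (hN : CSAGal.IsRedNorm k A N) (f : A →ₐ[k] Matrix ι ι L)
    (hd : Module.finrank k A = Fintype.card ι ^ 2) (a : A) : algebraMap k L (N a) = (f a).det := by
  obtain ⟨K, _, _, _, n, φ, hφ⟩ := hN
  obtain ⟨j, e, hj, h⟩ := exists_common_rep k K φ f hd
  apply (algebraMap L (AlgebraicClosure L)).injective
  rw [← hj, hφ, RingHom.map_det, RingHom.map_det]
  exact (h a).2.1.symm

/-- The reduced trace is the trace in every representation of the right degree. -/
theorem redTrace_eq_trace {T : A →+ k} (hT : CSAGal.IsRedTrace k A T) (f : A →ₐ[k] Matrix ι ι L)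
    (hd : Module.finrank k A = Fintype.card ι ^ 2) (a : A) : algebraMap k L (T a) = (f a).trace := by
  obtain ⟨K, _, _, _, n, φ, hφ⟩ := hT
  obtain ⟨j, e, hj, h⟩ := exists_common_rep k K φ f hd
  apply (algebraMap L (AlgebraicClosure L)).injective
  rw [← hj, hφ, AddMonoidHom.map_trace, AddMonoidHom.map_trace]
  exact (h a).2.2.symm

variable (k A)

/-- A representation over the algebraic closure. -/
theorem exists_rep : ∃ (n : ℕ) (_ : A →ₐ[k] Matrix (Fin n) (Fin n) (AlgebraicClosure k)),
    n ≠ 0 ∧ Module.finrank k A = n ^ 2 := by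
  obtain ⟨n, hn, ⟨φ⟩⟩ := splits_of_isAlgClosed k A (AlgebraicClosure k)
  exact ⟨n, splitRep k _ φ, hn, finrank_eq_of_splitting k _ φ⟩

end field

section subfield

variable (k : Type u) [Field k] {A : Type v} [Ring A] [Algebra k A] [FiniteDimensional k A]

/-- Left multiplication by an element of a subfield. -/
theorem exists_charpoly_mulLeft_subfield {K : Type w} [Field K] [Algebra k K] [FiniteDimensional k K]
    (ι : K →ₐ[k] A) : ∃ r : ℕ, Module.finrank k K * r = Module.finrank k A ∧ ∀ x : K,
      (LinearMap.mulLeft k (ι x)).charpoly = (LinearMap.mulLeft k x).charpoly ^ r := by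
  letI : Module K A := Module.compHom A ι.toRingHom
  have hsmul : ∀ (l : K) (a : A), l • a = ι l * a := fun _ _ => rfl
  have : IsScalarTower k K A := ⟨fun r l a => by simp [hsmul, map_smul]⟩
  have : Module.Finite K A := Module.Finite.of_restrictScalars_finite k K A
  refine ⟨Module.finrank K A, Module.finrank_mul_finrank k K A, fun x => ?_⟩
  let b := Module.finBasis k K
  let c := Module.finBasis K A
  rw [← LinearMap.charpoly_toMatrix _ (b.smulTower c), ← LinearMap.charpoly_toMatrix _ b]
  have h : LinearMap.toMatrix (b.smulTower c) (b.smulTower c) (LinearMap.mulLeft k (ι x)) =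
      LinearMap.toMatrix b b (LinearMap.mulLeft k x) ⊗ₖ (1 : Matrix (Fin (Module.finrank K A)) (Fin (Module.finrank K A)) k) := by
    ext ⟨p, i⟩ ⟨q, j⟩
    rw [LinearMap.toMatrix_apply, Module.Basis.smulTower_repr, Module.Basis.smulTower_apply,
      LinearMap.mulLeft_apply, ← hsmul, smul_smul, map_smul, Module.Basis.repr_self]
    simp only [Finsupp.smul_single, smul_eq_mul, mul_one, Matrix.kroneckerMap_apply,
      LinearMap.toMatrix_apply, LinearMap.mulLeft_apply]
    rcases eq_or_ne i j with rfl | hij
    · simp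
    · simp [Matrix.one_apply, hij, Ne.symm hij]
  rw [h, charpoly_kronecker_one, Fintype.card_fin]

variable [Algebra.IsCentral k A] [IsSimpleRing A]

omit [FiniteDimensional k A] in
theorem monic_pow_left_inj {R : Type*} [Field R] {p q : R[X]} (hp : p.Monic) (hq : q.Monic) {n : ℕ}
    (hn : n ≠ 0) (h : p ^ n = q ^ n) : p = q :=
  Polynomial.eq_of_monic_of_associated hp hq
    (associated_of_dvd_dvd ((UniqueFactorizationMonoid.pow_dvd_pow_iff_dvd hn).1 h.dvd) ((UniqueFactorizationMonoid.pow_dvd_pow_iff_dvd hn).1 h.symm.dvd))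

/-- The reduced characteristic polynomial of an element of a subfield of maximal degree. -/
theorem charpoly_rep_subfield {K : Type w} [Field K] [Algebra k K] [FiniteDimensional k K] (ι : K →ₐ[k] A)
    {L : Type x} [Field L] [Algebra k L] {n : Type y} [Fintype n] [DecidableEq n]
    (f : A →ₐ[k] Matrix n n L) (hd : Module.finrank k A = Fintype.card n ^ 2)
    (hK : Module.finrank k K = Fintype.card n) (x : K) :
    (f (ι x)).charpoly = (LinearMap.mulLeft k x).charpoly.map (algebraMap k L) := by
  obtain ⟨r, hr, h⟩ := exists_charpoly_mulLeft_subfield k ι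
  have hn : Fintype.card n ≠ 0 := (hK ▸ Module.finrank_pos).ne'
  have hr' : r = Fintype.card n := by
    rw [hd, hK, sq] at hr
    exact Nat.eq_of_mul_eq_mul_left (Nat.pos_of_ne_zero hn) hr
  refine monic_pow_left_inj (Matrix.charpoly_monic _) ((LinearMap.charpoly_monic _).map _) hn ?_
  rw [← charpoly_mulLeft_rep k f hd, h, hr', Polynomial.map_pow]

theorem det_rep_subfield {K : Type w} [Field K] [Algebra k K] (ι : K →ₐ[k] A)
    {L : Type x} [Field L] [Algebra k L] {n : Type y} [Fintype n] [DecidableEq n]
    (f : A →ₐ[k] Matrix n n L) (hd : Module.finrank k A = Fintype.card n ^ 2)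
    (hK : Module.finrank k K = Fintype.card n) (x : K) :
    (f (ι x)).det = algebraMap k L (Algebra.norm k x) := by
  have : FiniteDimensional k K := Module.Finite.of_injective ι.toLinearMap (RingHom.injective ι.toRingHom)
  rw [Matrix.det_eq_sign_charpoly_coeff, charpoly_rep_subfield k ι f hd hK, coeff_map, Algebra.norm_apply]
  show _ = algebraMap k L (LinearMap.det (LinearMap.mulLeft k x))
  rw [LinearMap.det_eq_sign_charpoly_coeff, hK, map_mul, map_pow, map_neg, map_one]

theorem trace_rep_subfield {K : Type w} [Field K] [Algebra k K] (ι : K →ₐ[k] A)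
    {L : Type x} [Field L] [Algebra k L] {n : Type y} [Fintype n] [DecidableEq n]
    (f : A →ₐ[k] Matrix n n L) (hd : Module.finrank k A = Fintype.card n ^ 2)
    (hK : Module.finrank k K = Fintype.card n) (x : K) :
    (f (ι x)).trace = algebraMap k L (Algebra.trace k K x) := by
  have : FiniteDimensional k K := Module.Finite.of_injective ι.toLinearMap (RingHom.injective ι.toRingHom)
  have := nonempty_of_rep k (A := A) hd
  let b := (Module.finBasis k K).reindex (Fintype.equivOfCardEq (show Fintype.card (Fin (Module.finrank k K)) = Fintype.card n by rw [Fintype.card_fin, hK]))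
  rw [Matrix.trace_eq_neg_charpoly_coeff, charpoly_rep_subfield k ι f hd hK, coeff_map,
    Algebra.trace_eq_matrix_trace b, Matrix.trace_eq_neg_charpoly_coeff, map_neg,
    Algebra.leftMulMatrix_apply, LinearMap.charpoly_toMatrix]
  rfl

end subfield

section unit

variable (k : Type u) [Field k] {A : Type v} [Ring A] [Algebra k A] [FiniteDimensional k A]

include k in
/-- An injective map out of a finite algebra reflects units. -/
theorem isUnit_of_isUnit_map {B : Type w} [Ring B] (f : A →+* B) (hf : Function.Injective f) {a : A}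
    (ha : IsUnit (f a)) : IsUnit a := by
  have hinj : Function.Injective (LinearMap.mulLeft k a) := fun x y h => hf <| ha.mul_left_cancel <| by
    simpa [← map_mul] using congrArg f h
  obtain ⟨b, hb⟩ := LinearMap.injective_iff_surjective.1 hinj (1 : A)
  refine ⟨⟨a, b, hb, hinj ?_⟩, rfl⟩
  show a * (b * a) = a * 1
  rw [← mul_assoc, show a * b = 1 from hb, one_mul, mul_one]

end unit

end Groth.CSA
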