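import Mathlib.RingTheory.MatrixAlgebra
import Mathlib.RingTheory.TensorProduct.Maps
import Mathlib.LinearAlgebra.Matrix.Reindex
import Mathlib.LinearAlgebra.Matrix.Unique
import Groth.Prelude.Def_Curves
/-! # Algebra isomorphisms for base change -/

universe u v w x

open scoped TensorProduct

namespace Groth.CSA

variable (k : Type u) [CommRing k] (K : Type v) [CommRing K] [Algebra k K] (A : Type w) [Ring A] [Algebra k A]

/-- `L ⊗ (K ⊗ A) ≅ L ⊗ A` for algebras. -/
noncomputable def cancelBC (L : Type x) [CommRing L] [Algebra k L] [Algebra K L] [IsScalarTower k K L] :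
    L ⊗[K] (K ⊗[k] A) ≃ₐ[L] L ⊗[k] A :=
  AlgEquiv.symm <| AlgEquiv.ofLinearEquiv
    (TensorProduct.AlgebraTensorModule.cancelBaseChange k K L L A).symm
    (by simp [Algebra.TensorProduct.one_def]) <|
      LinearMap.map_mul_of_map_mul_tmul (fun _ _ _ _ => by simp)

/-- `K ⊗ M_n(A) ≅ M_n(K ⊗ A)`. -/
noncomputable def baseChangeMatrix (n : Type x) [Fintype n] [DecidableEq n] :
    K ⊗[k] Matrix n n A ≃ₐ[K] Matrix n n (K ⊗[k] A) :=
  (Algebra.TensorProduct.congr (Matrix.uniqueAlgEquiv (m := Unit) (A := K) (R := K)).symm AlgEquiv.refl).trans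
    ((Matrix.kroneckerTMulAlgEquiv Unit n k K K A).trans
      (Matrix.reindexAlgEquiv K (K ⊗[k] A) (Equiv.punitProd n)))

end Groth.CSA

namespace Groth.CSA

variable {k : Type u} [Field k] {A : Type w} [Ring A] [Algebra k A]

theorem splits_congr {B : Type x} [Ring B] [Algebra k B] (e : A ≃ₐ[k] B) {K : Type v} [Field K]
    [Algebra k K] (h : Curves.Splits k A K) : Curves.Splits k B K := by
  obtain ⟨n, hn, ⟨f⟩⟩ := h
  exact ⟨n, hn, ⟨(Algebra.TensorProduct.congr (AlgEquiv.refl (R := K) (A₁ := K)) e).symm.trans f⟩⟩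

theorem splits_mono {K : Type v} [Field K] [Algebra k K] {L : Type x} [Field L] [Algebra k L]
    [Algebra K L] [IsScalarTower k K L] (h : Curves.Splits k A K) : Curves.Splits k A L := by
  obtain ⟨n, hn, ⟨f⟩⟩ := h
  exact ⟨n, hn, ⟨(cancelBC k K A L).symm.trans
    ((Algebra.TensorProduct.congr (AlgEquiv.refl (R := L) (A₁ := L)) f).trans
    ((baseChangeMatrix K L K (Fin n)).trans (AlgEquiv.mapMatrix (Algebra.TensorProduct.rid K L L))))⟩⟩

theorem splits_matrix {n : ℕ} (hn : n ≠ 0) {K : Type v} [Field K] [Algebra k K] (h : Curves.Splits k A K) :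
    Curves.Splits k (Matrix (Fin n) (Fin n) A) K := by
  obtain ⟨m, hm, ⟨f⟩⟩ := h
  exact ⟨n * m, Nat.mul_ne_zero hn hm, ⟨(baseChangeMatrix k K A (Fin n)).trans
    (f.mapMatrix.trans ((Matrix.compAlgEquiv (Fin n) (Fin m) K K).trans
      (Matrix.reindexAlgEquiv K K finProdFinEquiv)))⟩⟩

end Groth.CSA
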