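import Groth.Agent.CSA.Basic
import Mathlib.LinearAlgebra.Matrix.Action
/-! # Wedderburn form of a central simple algebra and uniqueness of the division part -/

universe u v w x

open scoped TensorProduct

namespace Groth.CSA

variable (k : Type u) [Field k]

theorem isCentral_of_matrix {n : Type x} [Fintype n] [DecidableEq n] [Nonempty n] (A : Type v) [Ring A] [Algebra k A]
    [Algebra.IsCentral k (Matrix n n A)] : Algebra.IsCentral k A := by
  refine ⟨fun a ha => ?_⟩
  have : Matrix.scalar n a ∈ Subalgebra.center k (Matrix n n A) :=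
    Subalgebra.mem_center_iff.2 fun M =>
      ((Matrix.scalar_commute a (fun b => (Subalgebra.mem_center_iff.1 ha b).symm) M).eq).symm
  obtain ⟨r, hr⟩ := (Algebra.IsCentral.mem_center_iff k).1 this
  obtain ⟨i⟩ := ‹Nonempty n›
  refine Algebra.mem_bot.2 ⟨r, ?_⟩
  have := congrFun (congrFun hr i) i
  simpa [Matrix.algebraMap_matrix_apply] using this.symm

theorem exists_matrix_divisionRing (A : Type v) [Ring A] [Algebra k A] [Algebra.IsCentral k A]
    [IsSimpleRing A] [FiniteDimensional k A] :
    ∃ (n : ℕ) (_ : NeZero n) (D : Type v) (_ : DivisionRing D) (_ : Algebra k D),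
      Algebra.IsCentral k D ∧ FiniteDimensional k D ∧ Nonempty (A ≃ₐ[k] Matrix (Fin n) (Fin n) D) := by
  have := IsArtinianRing.of_finite k A
  obtain ⟨n, hn, D, _, _, _, ⟨e⟩⟩ := IsSimpleRing.exists_algEquiv_matrix_divisionRing_finite k A
  have := isCentral_of_algEquiv k e
  exact ⟨n, hn, D, _, _, isCentral_of_matrix k (n := Fin n) D, inferInstance, ⟨e⟩⟩

variable (D : Type v) [DivisionRing D] [Algebra k D] {n : ℕ} [NeZero n]

theorem isSimpleModule_column : IsSimpleModule (Matrix (Fin n) (Fin n) D) (Fin n → D) := by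
  refine isSimpleModule_iff_toSpanSingleton_surjective.2 ⟨inferInstance, fun v hv w => ?_⟩
  obtain ⟨i, hi⟩ := Function.ne_iff.1 hv
  refine ⟨Matrix.of fun a b => if b = i then w a * (v i)⁻¹ else 0, ?_⟩
  ext a
  simp [Matrix.mulVec, dotProduct, mul_assoc, inv_mul_cancel₀ (show v i ≠ 0 from hi)]

/-- The commutant of `M_n(D)` on column vectors is `D`, acting on the right. -/
noncomputable def endColumnEquiv :
    Dᵐᵒᵖ ≃ₐ[k] Module.End (Matrix (Fin n) (Fin n) D) (Fin n → D) :=
  AlgEquiv.ofBijective
    { toFun := fun c =>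
        { toFun := fun v i => v i * c.unop
          map_add' := fun v w => funext fun i => add_mul _ _ _
          map_smul' := fun M v => funext fun i => by
            simp [Matrix.mulVec, dotProduct, Finset.sum_mul, mul_assoc] }
      map_one' := LinearMap.ext fun v => funext fun i => mul_one _
      map_mul' := fun c d => LinearMap.ext fun v => funext fun i => (mul_assoc _ _ _).symm
      map_zero' := LinearMap.ext fun v => funext fun i => mul_zero _
      map_add' := fun c d => LinearMap.ext fun v => funext fun i => mul_add _ _ _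
      commutes' := fun r => LinearMap.ext fun v => funext fun i => by
        show v i * algebraMap k D r = r • v i
        rw [← Algebra.commutes, Algebra.smul_def] }
    ⟨fun c d h => MulOpposite.unop_injective <| by
        simpa using congrFun (LinearMap.congr_fun h fun _ => 1) 0,
      fun φ => by
        let e₀ : Fin n → D := Pi.single 0 1
        refine ⟨MulOpposite.op (φ e₀ 0), LinearMap.ext fun v => ?_⟩
        let V : Matrix (Fin n) (Fin n) D := Matrix.of fun a b => if b = 0 then v a else 0
        have hv : V • e₀ = v := by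
          ext a; simp [V, e₀, Matrix.mulVec, dotProduct, Pi.single_apply]
        conv_rhs => rw [← hv, map_smul]
        ext a
        simp [V, Matrix.mulVec, dotProduct]⟩

theorem matrix_divisionRing_unique (D' : Type w) [DivisionRing D'] [Algebra k D']
    [FiniteDimensional k D] [FiniteDimensional k D'] {m : ℕ} [NeZero m]
    (e : Matrix (Fin n) (Fin n) D ≃ₐ[k] Matrix (Fin m) (Fin m) D') :
    n = m ∧ Nonempty (D ≃ₐ[k] D') := by
  classical
  let R := Matrix (Fin n) (Fin n) D
  have := isSimpleModule_column D (n := n)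
  letI : Module R (Fin m → D') := Module.compHom _ e.toAlgHom.toRingHom
  have hS' : IsSimpleModule R (Fin m → D') := by
    have := isSimpleModule_column D' (n := m)
    refine isSimpleModule_iff_toSpanSingleton_surjective.2 ⟨inferInstance, fun v hv w => ?_⟩
    obtain ⟨r, hr⟩ := IsSimpleModule.toSpanSingleton_surjective (Matrix (Fin m) (Fin m) D') hv w
    refine ⟨e.symm r, ?_⟩
    show e (e.symm r) • v = w
    rw [e.apply_symm_apply]
    exact hr
  obtain ⟨S₁, hS₁, h₁⟩ := exists_simple_type.{u, v, v} k R
  obtain ⟨S₂, hS₂, h₂⟩ := exists_simple_type.{u, v, w} k R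
  obtain ⟨f⟩ := h₁ (Fin n → D)
  obtain ⟨g⟩ := h₁ S₂
  obtain ⟨g'⟩ := h₂ (Fin m → D')
  have : IsScalarTower k R (Fin m → D') := ⟨fun r s v => by
    show e (r • s) • v = r • e s • v
    rw [map_smul, smul_assoc]⟩
  have : IsScalarTower k R (Fin n → D) := ⟨fun r s v => smul_assoc r s v⟩
  let φ : (Fin n → D) ≃ₗ[R] (Fin m → D') := (f.trans g.symm).trans g'.symm
  let E₁ : Dᵐᵒᵖ ≃ₐ[k] Module.End R (Fin m → D') := (endColumnEquiv k D).trans (φ.conjAlgEquiv k)
  let E₂ : Module.End R (Fin m → D') ≃ₐ[k] Module.End (Matrix (Fin m) (Fin m) D') (Fin m → D') :=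
    AlgEquiv.ofBijective
      { toFun := fun ψ =>
          { toFun := ψ
            map_add' := map_add ψ
            map_smul' := fun M v => by
              have h : ψ (e.symm M • v) = e.symm M • ψ v := map_smul ψ (e.symm M) v
              change ψ (e (e.symm M) • v) = e (e.symm M) • ψ v at h
              rwa [e.apply_symm_apply] at h }
        map_one' := rfl
        map_mul' := fun _ _ => rfl
        map_zero' := rfl
        map_add' := fun _ _ => rfl
        commutes' := fun _ => rfl }
      ⟨fun ψ ψ' h => LinearMap.ext fun v => LinearMap.congr_fun h v,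
        fun ψ => ⟨{ toFun := ψ, map_add' := map_add ψ, map_smul' := fun M v => map_smul ψ (e M) v }, rfl⟩⟩
  let E : Dᵐᵒᵖ ≃ₐ[k] D'ᵐᵒᵖ := (E₁.trans E₂).trans (endColumnEquiv k D').symm
  let F : D ≃ₐ[k] D' := ((AlgEquiv.opOp k D).trans E.op).trans (AlgEquiv.opOp k D').symm
  refine ⟨?_, ⟨F⟩⟩
  have h := e.toLinearEquiv.finrank_eq
  simp only [Module.finrank_matrix, Fintype.card_fin] at h
  rw [F.toLinearEquiv.finrank_eq] at h
  exact Nat.mul_self_inj.1 (Nat.eq_of_mul_eq_mul_right Module.finrank_pos h)

end Groth.CSA
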