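import Groth.Agent.CSA.SkolemNoether
import Groth.Agent.CSA.Wedderburn
import Groth.Agent.CSA.BaseChange
import Mathlib.FieldTheory.JacobsonNoether
import Mathlib.FieldTheory.IsSepClosed
import Mathlib.FieldTheory.Galois.Basic
import Mathlib.RingTheory.Adjoin.Polynomial.Basic
/-! # Separable splitting fields -/

universe u v w

open scoped TensorProduct

namespace Groth.CSA

variable (k : Type u) [Field k]

/-- A finite central division algebra contains a self-centralizing separable commutative subalgebra. -/
theorem exists_separable_selfCentralizing (D : Type v) [DivisionRing D] [Algebra k D]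
    [Algebra.IsCentral k D] [FiniteDimensional k D] :
    ∃ L : Subalgebra k D, (∀ x ∈ L, ∀ y ∈ L, x * y = y * x) ∧ Algebra.IsSeparable k L ∧
      Subalgebra.centralizer k (L : Set D) = L := by
  classical
  let good : Subalgebra k D → Prop := fun L =>
    (∀ x ∈ L, ∀ y ∈ L, x * y = y * x) ∧ ∀ x ∈ L, IsSeparable k x
  have hbot : good ⊥ := by
    refine ⟨fun x hx y hy => ?_, fun x hx => ?_⟩
    · obtain ⟨r, rfl⟩ := Algebra.mem_bot.1 hx
      exact Algebra.commutes r y
    · obtain ⟨r, rfl⟩ := Algebra.mem_bot.1 hx
      exact isSeparable_algebraMap r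
  let S : Set ℕ := {n | ∃ L, good L ∧ Module.finrank k L = n}
  have hS : S.Nonempty := ⟨_, ⊥, hbot, rfl⟩
  have hB : BddAbove S := ⟨Module.finrank k D, by rintro _ ⟨L, -, rfl⟩; exact Submodule.finrank_le L.toSubmodule⟩
  obtain ⟨L, ⟨hcomm, hsep⟩, hL⟩ := Nat.sSup_mem hS hB
  refine ⟨L, hcomm, Subalgebra.isSeparable_iff.2 hsep, ?_⟩
  have hLC : L ≤ Subalgebra.centralizer k (L : Set D) :=
    fun x hx => (Subalgebra.mem_centralizer_iff _).2 fun y hy => hcomm y hy x hx
  refine (eq_of_le_of_not_lt hLC fun hlt => ?_).symm
  set C := Subalgebra.centralizer k (L : Set D) with hC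
  letI : CommRing L := { (inferInstance : Ring L) with mul_comm := fun a b => Subtype.ext (hcomm a a.2 b b.2) }
  letI : Field L := fieldOfFiniteDimensional k L
  letI : DivisionRing C := divisionRingOfFiniteDimensional k C
  let i : L →ₐ[k] C := Subalgebra.inclusion hLC
  letI : Algebra L C := i.toRingHom.toAlgebra' fun c x =>
    Subtype.ext ((Subalgebra.mem_centralizer_iff _).1 x.2 c c.2)
  have : IsScalarTower k L C := IsScalarTower.of_algebraMap_eq fun r => (i.commutes r).symm
  have : Module.Finite L C := Module.Finite.of_restrictScalars_finite k L C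
  have hsimp : IsSimpleRing L := DivisionRing.isSimpleRing L
  have hCC := centralizer_centralizer k L
  have : Algebra.IsCentral L C := ⟨fun c hc => by
    have h1 : (c : D) ∈ L := by
      rw [← hCC]
      exact (Subalgebra.mem_centralizer_iff _).2 fun d hd =>
        congrArg Subtype.val (Subalgebra.mem_center_iff.1 hc ⟨d, hd⟩)
    exact Algebra.mem_bot.2 ⟨⟨c, h1⟩, Subtype.ext rfl⟩⟩
  have hne : (⊥ : Subalgebra L C) ≠ ⊤ := fun h => hlt.not_ge fun x hx => by
    obtain ⟨l, hl⟩ := Algebra.mem_bot.1 (h ▸ Algebra.mem_top : (⟨x, hx⟩ : C) ∈ (⊥ : Subalgebra L C))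
    have : (l : D) = x := congrArg Subtype.val hl
    exact this ▸ l.2
  have : Algebra.IsAlgebraic L C := Algebra.IsAlgebraic.of_finite L C
  obtain ⟨x, hx, hxsep⟩ := JacobsonNoether.exists_separable_and_not_isCentral' hne
  let F := Algebra.adjoin L ({x} : Set C)
  letI : CommRing F := { (inferInstance : Ring F) with mul_comm := fun a b => Subtype.ext (by
    obtain ⟨p, hp⟩ := (Algebra.adjoin_singleton_eq_range_aeval L x).le a.2
    obtain ⟨q, hq⟩ := (Algebra.adjoin_singleton_eq_range_aeval L x).le b.2
    show (a : C) * b = b * a
    rw [← hp, ← hq]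
    exact ((Polynomial.aeval x).map_mul p q).symm.trans
      ((congrArg _ (mul_comm p q)).trans ((Polynomial.aeval x).map_mul q p))) }
  letI : Field F := fieldOfFiniteDimensional L F
  let x' : F := ⟨x, Algebra.self_mem_adjoin_singleton L x⟩
  have hx' : IsSeparable L x' := (isSeparable_map_iff F.val Subtype.val_injective).1 hxsep
  have htop : IntermediateField.adjoin L ({x'} : Set F) = ⊤ := by
    rw [eq_top_iff]
    rintro ⟨y, hy⟩ -
    obtain ⟨p, rfl⟩ := (Algebra.adjoin_singleton_eq_range_aeval L x).le hy
    refine IntermediateField.algebra_adjoin_le_adjoin L _ ?_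
    rw [Algebra.adjoin_singleton_eq_range_aeval]
    refine ⟨p, Subtype.ext ?_⟩
    exact (Polynomial.aeval_algHom_apply F.val x' p).symm
  have hsepF : Algebra.IsSeparable L F := by
    have := (IntermediateField.isSeparable_adjoin_simple_iff_isSeparable L F).2 hx'
    exact AlgEquiv.Algebra.isSeparable ((IntermediateField.equivOfEq htop).trans IntermediateField.topEquiv)
  have hsepL : Algebra.IsSeparable k L := Subalgebra.isSeparable_iff.2 hsep
  have : IsScalarTower k L F := IsScalarTower.of_algebraMap_eq fun r => Subtype.ext (i.commutes r).symm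
  have hsepkF : Algebra.IsSeparable k F := Algebra.IsSeparable.trans k L F
  let f : F →ₐ[k] D := C.val.comp (F.val.restrictScalars k)
  have hf : Function.Injective f := Subtype.val_injective.comp Subtype.val_injective
  have hgood : good f.range := by
    refine ⟨?_, ?_⟩
    · rintro _ ⟨a, rfl⟩ _ ⟨b, rfl⟩
      exact ((f.map_mul a b).symm.trans (congrArg f (mul_comm a b))).trans (f.map_mul b a)
    · rintro _ ⟨a, rfl⟩
      exact IsSeparable.map f hf (Algebra.IsSeparable.isSeparable k a)
  have hle : L ≤ f.range := fun l hl => ⟨algebraMap L F ⟨l, hl⟩, rfl⟩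
  have hxL : (x : D) ∉ L := fun h => hx (Algebra.mem_bot.2 ⟨⟨x, h⟩, Subtype.ext rfl⟩)
  have hlt' : L < f.range := lt_of_le_of_ne hle fun h => hxL (h.symm ▸ ⟨x', rfl⟩)
  have h1 : Module.finrank k L < Module.finrank k f.range := by
    refine lt_of_le_of_ne (Submodule.finrank_mono (s := L.toSubmodule) (t := f.range.toSubmodule) hle) fun h => hlt'.ne ?_
    exact Subalgebra.eq_of_le_of_finrank_le hle h.ge
  exact absurd (le_csSup hB ⟨f.range, hgood, rfl⟩) (by omega)

/-- The maximal commutative separable subfield has degree the index. -/
theorem finrank_eq_sq_of_selfCentralizing (D : Type v) [DivisionRing D] [Algebra k D]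
    [Algebra.IsCentral k D] [FiniteDimensional k D] (L : Subalgebra k D)
    (hcomm : ∀ x ∈ L, ∀ y ∈ L, x * y = y * x) (hL : Subalgebra.centralizer k (L : Set D) = L) :
    Module.finrank k D = Module.finrank k L ^ 2 := by
  letI : CommRing L := { (inferInstance : Ring L) with mul_comm := fun a b => Subtype.ext (hcomm a a.2 b b.2) }
  letI : Field L := fieldOfFiniteDimensional k L
  have hsimp : IsSimpleRing L := DivisionRing.isSimpleRing L
  have h := (centralizer_isSimpleRing_and_finrank k L).2
  rw [hL] at h
  rw [h, sq]

/-- An embedded field of degree the degree of `A` splits `A`. -/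
theorem splits_of_embedding (A : Type v) [Ring A] [Algebra k A] [Algebra.IsCentral k A] [IsSimpleRing A]
    [FiniteDimensional k A] (K : Type w) [Field K] [Algebra k K] (ι : K →ₐ[k] A)
    (h : Module.finrank k A = Module.finrank k K ^ 2) : Curves.Splits k A K := by
  have hKfin : FiniteDimensional k K := Module.Finite.of_injective ι.toLinearMap (RingHom.injective ι.toRingHom)
  let act : K →+* Module.End ℤ A :=
    { toFun := fun l => (AddMonoidHom.mulRight (ι l)).toIntLinearMap
      map_one' := LinearMap.ext fun x => by simp
      map_mul' := fun l m => LinearMap.ext fun x => by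
        show x * ι (l * m) = x * ι m * ι l
        rw [mul_comm l m, map_mul, mul_assoc]
      map_zero' := LinearMap.ext fun x => by simp
      map_add' := fun l m => LinearMap.ext fun x => by simp [mul_add] }
  letI : Module K A := Module.compHom A act
  have hsmul : ∀ (l : K) (x : A), l • x = x * ι l := fun l x => rfl
  have : IsScalarTower k K A := ⟨fun r l x => by simp [hsmul, map_smul]⟩
  have : SMulCommClass K k A := IsScalarTower.to_smulCommClass' 
  have : Module.Finite K A := Module.Finite.of_restrictScalars_finite k K A
  let mulL : A →ₐ[k] Module.End K A :=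
    { toFun := fun a => { toFun := fun x => a * x, map_add' := mul_add a
                          map_smul' := fun l x => by simp [hsmul, mul_assoc] }
      map_one' := LinearMap.ext fun x => one_mul x
      map_mul' := fun a b => LinearMap.ext fun x => mul_assoc a b x
      map_zero' := LinearMap.ext fun x => zero_mul x
      map_add' := fun a b => LinearMap.ext fun x => add_mul a b x
      commutes' := fun r => LinearMap.ext fun x => by
        show algebraMap k A r * x = r • x
        rw [Algebra.smul_def] }
  let Φ : K ⊗[k] A →ₐ[K] Module.End K A :=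
    Algebra.TensorProduct.lift (Algebra.ofId K (Module.End K A)) mulL fun l a => by
      show Commute _ _
      exact Algebra.commute_algebraMap_left l (mulL a)
  have := isSimpleRing_baseChange k A K
  have hA : 0 < Module.finrank K A := Module.finrank_pos
  have hinj : Function.Injective Φ := RingHom.injective Φ.toRingHom
  have hdim : Module.finrank K A = Module.finrank k K := by
    have h2 := Module.finrank_mul_finrank k K A
    rw [h, sq] at h2
    exact Nat.eq_of_mul_eq_mul_left Module.finrank_pos h2
  have hsurj : Function.Surjective Φ :=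
    (LinearMap.injective_iff_surjective_of_finrank_eq_finrank (f := Φ.toLinearMap)
      (by rw [Module.finrank_baseChange, Module.finrank_linearMap, h, hdim, sq])).1 hinj
  refine ⟨Module.finrank K A, hA.ne', ⟨(AlgEquiv.ofBijective Φ ⟨hinj, hsurj⟩).trans ?_⟩⟩
  exact LinearMap.toMatrixAlgEquiv (Module.finBasis K A)

/-- Every central simple algebra is split by a finite separable subextension of the separable closure. -/
theorem exists_separable_splitting (A : Type v) [Ring A] [Algebra k A] [Algebra.IsCentral k A]
    [IsSimpleRing A] [FiniteDimensional k A] :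
    ∃ E : IntermediateField k (SeparableClosure k), FiniteDimensional k E ∧ Algebra.IsSeparable k E ∧
      Curves.Splits k A E := by
  obtain ⟨n, hn, D, _, _, _, _, ⟨e⟩⟩ := exists_matrix_divisionRing k A
  obtain ⟨L, hcomm, hsep, hL⟩ := exists_separable_selfCentralizing k D
  have hdim := finrank_eq_sq_of_selfCentralizing k D L hcomm hL
  letI : CommRing L := { (inferInstance : Ring L) with mul_comm := fun a b => Subtype.ext (hcomm a a.2 b b.2) }
  letI : Field L := fieldOfFiniteDimensional k L
  have := hsep
  have hD : Curves.Splits k D L := splits_of_embedding k D L L.val hdim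
  let j : L →ₐ[k] SeparableClosure k := IsSepClosed.lift
  let e' : L ≃ₐ[k] j.fieldRange := AlgEquiv.ofInjectiveField j
  refine ⟨j.fieldRange, Module.Finite.equiv e'.toLinearEquiv, AlgEquiv.Algebra.isSeparable e', ?_⟩
  letI : Algebra L j.fieldRange := e'.toAlgHom.toRingHom.toAlgebra
  have : IsScalarTower k L j.fieldRange := IsScalarTower.of_algebraMap_eq fun r => (e'.commutes r).symm
  exact splits_congr e.symm (splits_matrix hn.out (splits_mono hD))

/-- Every central simple algebra is split by a finite Galois extension. -/
theorem exists_galois_splitting (A : Type v) [Ring A] [Algebra k A] [Algebra.IsCentral k A]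
    [IsSimpleRing A] [FiniteDimensional k A] :
    ∃ E : IntermediateField k (SeparableClosure k), FiniteDimensional k E ∧ IsGalois k E ∧
      Curves.Splits k A E := by
  obtain ⟨E, hfd, hsep, h⟩ := exists_separable_splitting k A
  have : IsGalois k (SeparableClosure k) := IsSepClosure.isGalois
  exact ⟨IntermediateField.normalClosure k E (SeparableClosure k), inferInstance, inferInstance, splits_mono h⟩

theorem splits_separableClosure (A : Type v) [Ring A] [Algebra k A] [Algebra.IsCentral k A]
    [IsSimpleRing A] [FiniteDimensional k A] : Curves.Splits k A (SeparableClosure k) := by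
  obtain ⟨E, -, -, h⟩ := exists_separable_splitting k A
  exact splits_mono h

theorem splits_of_isSepClosed (A : Type v) [Ring A] [Algebra k A] [Algebra.IsCentral k A]
    [IsSimpleRing A] [FiniteDimensional k A] (K : Type w) [Field K] [Algebra k K] [IsSepClosed K] :
    Curves.Splits k A K := by
  obtain ⟨E, hfd, hsep, h⟩ := exists_separable_splitting k A
  letI : Algebra E K := (IsSepClosed.lift : E →ₐ[k] K).toRingHom.toAlgebra
  have : IsScalarTower k E K := IsScalarTower.of_algebraMap_eq fun r =>
    ((IsSepClosed.lift : E →ₐ[k] K).commutes r).symm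
  exact splits_mono h

end Groth.CSA
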