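import Mathlib.RingTheory.TensorProduct.Maps
import Mathlib.RingTheory.MatrixAlgebra
import Mathlib.LinearAlgebra.TensorProduct.Tower
/-! # Base change of a tensor product of algebras -/

universe u v w x

open scoped TensorProduct

namespace Groth.CSA

variable (k : Type u) [CommRing k] (K : Type v) [CommRing K] [Algebra k K]
  (A : Type w) [Ring A] [Algebra k A] (B : Type x) [Ring B] [Algebra k B]

/-- `K ⊗ (A ⊗ B) ≅ (K ⊗ A) ⊗_K (K ⊗ B)` for algebras. -/
noncomputable def tensorBC : K ⊗[k] (A ⊗[k] B) ≃ₐ[K] (K ⊗[k] A) ⊗[K] (K ⊗[k] B) :=
  AlgEquiv.ofLinearEquiv (TensorProduct.AlgebraTensorModule.distribBaseChange k K A B)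
    (by simp [Algebra.TensorProduct.one_def, TensorProduct.AlgebraTensorModule.distribBaseChange]) <| by
    let f := (TensorProduct.AlgebraTensorModule.distribBaseChange k K A B).toLinearMap
    have hf : ∀ (c : K) (a : A) (b : B), f (c ⊗ₜ (a ⊗ₜ b)) = (c ⊗ₜ a) ⊗ₜ (1 ⊗ₜ b) := fun c a b => by
      simp [f, TensorProduct.AlgebraTensorModule.distribBaseChange]
    intro x y
    show f (x * y) = f x * f y
    induction x using TensorProduct.induction_on with
    | zero => simp
    | add p q hp hq => simp [add_mul, hp, hq]
    | tmul c z =>
      induction y using TensorProduct.induction_on with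
      | zero => simp
      | add p q hp hq => simp [mul_add, hp, hq]
      | tmul c' z' =>
        induction z using TensorProduct.induction_on with
        | zero => simp
        | add p q hp hq => simp only [TensorProduct.tmul_add, add_mul, map_add, hp, hq]
        | tmul a b =>
          induction z' using TensorProduct.induction_on with
          | zero => simp
          | add p q hp hq => simp only [TensorProduct.tmul_add, mul_add, map_add, hp, hq]
          | tmul a' b' => simp [hf, mul_comm]

end Groth.CSA
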