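import Groth.Agent.CSA.PeriodIndex
import Groth.Agent.CSA.TensorBC
import Mathlib.GroupTheory.Sylow
import Mathlib.FieldTheory.Galois.Basic
/-! # Index and period of central simple algebras -/

universe u v w x

open scoped TensorProduct

namespace Groth.CSA

variable {k : Type u} [Field k]

/-- The data of the division algebra part behind `CSAGal.IsIndex`. -/
theorem isIndex_data {A : Type v} [Ring A] [Algebra k A] [Algebra.IsCentral k A] {d : ℕ}
    (h : CSAGal.IsIndex k A d) : ∃ (D : Type v) (_ : DivisionRing D) (_ : Algebra k D),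
      Algebra.IsCentral k D ∧ FiniteDimensional k D ∧ 0 < d ∧ Module.finrank k D = d ^ 2 ∧ Sim k A D := by
  obtain ⟨hd0, m, D, iD, iA, hm, hd, ⟨e⟩⟩ := h
  have : NeZero m := ⟨hm.ne'⟩
  have := isCentral_of_algEquiv k e
  exact ⟨D, iD, iA, isCentral_of_matrix k (n := Fin m) D,
    FiniteDimensional.of_finrank_pos (by rw [hd]; exact pow_pos hd0 2), hd0, hd,
    (Sim.of_algEquiv e).trans (Sim.matrix hm.ne' D)⟩

theorem isIndex_of_sim {A : Type v} [Ring A] [Algebra k A] [Algebra.IsCentral k A] [IsSimpleRing A]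
    [FiniteDimensional k A] {D : Type w} [DivisionRing D] [Algebra k D] [Algebra.IsCentral k D]
    [FiniteDimensional k D] (h : Sim k A D) {d : ℕ} (hd : Module.finrank k D = d ^ 2) : CSAGal.IsIndex k A d := by
  obtain ⟨r, s, hr, hs, ⟨f⟩⟩ := h
  obtain ⟨p, hp, E, iE, iEA, -, hE, ⟨g⟩⟩ := exists_matrix_divisionRing k A
  have : NeZero (r * p) := ⟨mul_ne_zero hr (NeZero.ne p)⟩
  have : NeZero s := ⟨hs⟩
  obtain ⟨-, ⟨φ⟩⟩ := matrix_divisionRing_unique k E D ((g.mapMatrix.trans (matMat r p E)).symm.trans f)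
  refine ⟨Nat.pos_of_ne_zero ?_, p, E, iE, iEA, Nat.pos_of_ne_zero (NeZero.ne p),
    φ.toLinearEquiv.finrank_eq.trans hd, ⟨g⟩⟩
  rintro rfl
  exact (Module.finrank_pos (R := k) (M := D)).ne' (hd.trans (zero_pow two_ne_zero))

/-- Every central simple algebra has an index. -/
theorem exists_division_sim (A : Type v) [Ring A] [Algebra k A] [Algebra.IsCentral k A] [IsSimpleRing A]
    [FiniteDimensional k A] : ∃ (D : Type v) (_ : DivisionRing D) (_ : Algebra k D) (d : ℕ),
      Algebra.IsCentral k D ∧ FiniteDimensional k D ∧ 0 < d ∧ Module.finrank k D = d ^ 2 ∧ Sim k A D := by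
  obtain ⟨p, hp, D, iD, iA, hC, hf, ⟨g⟩⟩ := exists_matrix_divisionRing k A
  obtain ⟨d, hd0, hd⟩ := exists_finrank_eq_sq k D
  exact ⟨D, iD, iA, d, hC, hf, hd0, hd, (Sim.of_algEquiv g).trans (Sim.matrix (NeZero.ne p) D)⟩

section Division

variable {D : Type v} [DivisionRing D] [Algebra k D] [Algebra.IsCentral k D] [FiniteDimensional k D] {d : ℕ}

theorem dvd_of_sim (hd : Module.finrank k D = d ^ 2) {B : Type w} [Ring B] [Algebra k B] [Algebra.IsCentral k B]
    [IsSimpleRing B] [FiniteDimensional k B] (h : Sim k D B) {n : ℕ} (hn : Module.finrank k B = n ^ 2) : d ∣ n := by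
  obtain ⟨r, s, hr, hs, ⟨f⟩⟩ := h
  obtain ⟨p, hp, E, _, _, -, hE, ⟨g⟩⟩ := exists_matrix_divisionRing k B
  have : NeZero (s * p) := ⟨mul_ne_zero hs (NeZero.ne p)⟩
  have : NeZero r := ⟨hr⟩
  obtain ⟨-, ⟨φ⟩⟩ := matrix_divisionRing_unique k D E (f.trans (g.mapMatrix.trans (matMat s p E)))
  refine ⟨p, Nat.pow_left_injective two_ne_zero ?_⟩
  show n ^ 2 = (d * p) ^ 2
  rw [← hn, g.toLinearEquiv.finrank_eq, Module.finrank_matrix, Fintype.card_fin, ← φ.toLinearEquiv.finrank_eq, hd]
  ring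

theorem dvd_finrank_of_splits (hd : Module.finrank k D = d ^ 2) {L : Type w} [Field L] [Algebra k L]
    [FiniteDimensional k L] (h : Curves.Splits k D L) : d ∣ Module.finrank k L := by
  obtain ⟨B, _, _, _, _, _, hdB, hs, -⟩ := exists_sim_embedding h
  exact dvd_of_sim hd hs hdB

theorem exists_degree_splitting_field (hd : Module.finrank k D = d ^ 2) :
    ∃ (L : Type v) (_ : Field L) (_ : Algebra k L), FiniteDimensional k L ∧ Algebra.IsSeparable k L ∧
      Module.finrank k L = d ∧ Curves.Splits k D L ∧ Nonempty (L →ₐ[k] D) := by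
  obtain ⟨L, hcomm, hsep, hL⟩ := exists_separable_selfCentralizing k D
  have hdim := finrank_eq_sq_of_selfCentralizing k D L hcomm hL
  letI : CommRing L := { (inferInstance : Ring L) with mul_comm := fun a b => Subtype.ext (hcomm a a.2 b b.2) }
  letI : Field L := fieldOfFiniteDimensional k L
  exact ⟨L, inferInstance, inferInstance, inferInstance, hsep,
    Nat.pow_left_injective two_ne_zero (hdim.symm.trans hd), splits_of_embedding k D L L.val hdim, ⟨L.val⟩⟩

end Division

section BaseChange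

variable {A : Type v} [Ring A] [Algebra k A] {L : Type w} [Field L] [Algebra k L]

theorem Sim.baseChange {B : Type x} [Ring B] [Algebra k B] (h : Sim k A B) :
    Sim L (L ⊗[k] A) (L ⊗[k] B) := by
  obtain ⟨n, m, hn, hm, ⟨e⟩⟩ := h
  exact ⟨n, m, hn, hm, ⟨(baseChangeMatrix k L A (Fin n)).symm.trans
    ((Algebra.TensorProduct.congr (AlgEquiv.refl (R := L) (A₁ := L)) e).trans (baseChangeMatrix k L B (Fin m)))⟩⟩

variable (L) in
theorem sim_baseChange_tpow (n : ℕ) : Sim L (L ⊗[k] CSAGal.tpow k A n) (CSAGal.tpow L (L ⊗[k] A) n) := by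
  induction n with
  | zero =>
    exact .of_algEquiv (((Algebra.TensorProduct.congr (AlgEquiv.refl (R := L) (A₁ := L))
      (piEmpty k fun _ : Fin 0 => A)).trans (Algebra.TensorProduct.rid k L L)).trans
      (piEmpty L fun _ : Fin 0 => L ⊗[k] A).symm)
  | succ n ih =>
    exact ((Sim.of_algEquiv ((Algebra.TensorProduct.congr (AlgEquiv.refl (R := L) (A₁ := L)) (piSuccConst k A n)).trans
      (tensorBC k L A (CSAGal.tpow k A n)))).trans (ih.tensor_left (L ⊗[k] A))).trans
      (.of_algEquiv (piSuccConst L (L ⊗[k] A) n).symm)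

variable [Algebra.IsCentral k A] [IsSimpleRing A] [FiniteDimensional k A]

theorem csa_baseChange (L : Type w) [Field L] [Algebra k L] : Algebra.IsCentral L (L ⊗[k] A) ∧
    IsSimpleRing (L ⊗[k] A) ∧ FiniteDimensional L (L ⊗[k] A) :=
  ⟨isCentral_baseChange k A L, isSimpleRing_baseChange k A L, inferInstance⟩

theorem splits_iff_sim_baseChange : Curves.Splits k A L ↔ Sim L (L ⊗[k] A) L := by
  obtain ⟨_, _, _⟩ := csa_baseChange (k := k) (A := A) L
  rw [← splits_self_iff_sim]
  constructor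
  · rintro ⟨n, hn, ⟨e⟩⟩
    exact ⟨n, hn, ⟨(Algebra.TensorProduct.lid L (L ⊗[k] A)).trans e⟩⟩
  · rintro ⟨n, hn, ⟨e⟩⟩
    exact ⟨n, hn, ⟨(Algebra.TensorProduct.lid L (L ⊗[k] A)).symm.trans e⟩⟩

theorem splits_baseChange_iff (K : Type x) [Field K] [Algebra k K] [Algebra L K] [IsScalarTower k L K] :
    Curves.Splits L (L ⊗[k] A) K ↔ Curves.Splits k A K :=
  ⟨fun ⟨n, hn, ⟨e⟩⟩ => ⟨n, hn, ⟨(cancelBC k L A K).symm.trans e⟩⟩,
    fun ⟨n, hn, ⟨e⟩⟩ => ⟨n, hn, ⟨(cancelBC k L A K).trans e⟩⟩⟩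

end BaseChange

section Tpow

variable {A : Type v} [Ring A] [Algebra k A]

theorem sim_tpow_self (n : ℕ) : Sim k (CSAGal.tpow k k n) k :=
  .of_algEquiv (PiTensorProduct.constantBaseRingEquiv (Fin n) k)

theorem sim_tpow_one : Sim k (CSAGal.tpow k A 1) A :=
  .of_algEquiv ((piSuccConst k A 0).trans ((Algebra.TensorProduct.congr AlgEquiv.refl
    (piEmpty k fun _ : Fin 0 => A)).trans (Algebra.TensorProduct.rid k k A)))

theorem sim_tpow_mul_self {e : ℕ} (h : Sim k (CSAGal.tpow k A e) k) (q : ℕ) : Sim k (CSAGal.tpow k A (e * q)) k :=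
  (sim_tpow_mul e q).trans ((h.tpow q).trans (sim_tpow_self q))

theorem sim_tpow_mod {a b : ℕ} (ha : Sim k (CSAGal.tpow k A a) k) (hb : Sim k (CSAGal.tpow k A b) k) :
    Sim k (CSAGal.tpow k A (b % a)) k := by
  have h := sim_tpow_add (k := k) (A := A) (b % a) (a * (b / a))
  rw [Nat.mod_add_div] at h
  exact ((Sim.of_algEquiv (Algebra.TensorProduct.rid k k _).symm).trans
    (((sim_tpow_mul_self ha (b / a)).symm.tensor_left _).trans h.symm)).trans hb

theorem sim_tpow_gcd {a b : ℕ} (ha : Sim k (CSAGal.tpow k A a) k) (hb : Sim k (CSAGal.tpow k A b) k) :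
    Sim k (CSAGal.tpow k A (Nat.gcd a b)) k := by
  induction a, b using Nat.gcd.induction with
  | H0 n => rwa [Nat.gcd_zero_left]
  | H1 m n _ ih =>
    rw [Nat.gcd_rec]
    exact ih (sim_tpow_mod ha hb) ha

theorem sim_self_of_coprime {a b : ℕ} (hab : Nat.Coprime a b) (ha : Sim k (CSAGal.tpow k A a) k)
    (hb : Sim k (CSAGal.tpow k A b) k) : Sim k A k := by
  have h := sim_tpow_gcd ha hb
  rw [hab.gcd_eq_one] at h
  exact sim_tpow_one.symm.trans h

variable [Algebra.IsCentral k A] [IsSimpleRing A] [FiniteDimensional k A]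

theorem splits_tpow_iff (n : ℕ) : Curves.Splits k (CSAGal.tpow k A n) k ↔ Sim k (CSAGal.tpow k A n) k := by
  obtain ⟨_, _, _⟩ := csa_tpow (k := k) (A := A) n
  exact splits_self_iff_sim

theorem isPeriod_dvd {p e : ℕ} (hp : CSAGal.IsPeriod k A p) (he : Sim k (CSAGal.tpow k A e) k) : p ∣ e := by
  obtain ⟨hp0, hps, hmin⟩ := hp
  refine Nat.dvd_of_mod_eq_zero (by_contra fun h => hmin _ (Nat.pos_of_ne_zero h) (Nat.mod_lt _ hp0) ?_)
  exact (splits_tpow_iff _).2 (sim_tpow_mod ((splits_tpow_iff _).1 hps) he)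

/-- The degree of a similar algebra kills. -/
theorem sim_tpow_of_sim {B : Type w} [Ring B] [Algebra k B] [Algebra.IsCentral k B] [IsSimpleRing B]
    [FiniteDimensional k B] (h : Sim k A B) {n : ℕ} (hn : 0 < n) (hd : Module.finrank k B = n ^ 2) :
    Sim k (CSAGal.tpow k A n) k :=
  (h.tpow n).trans ((splits_tpow_iff n).1 (splits_tpow_of_finrank_eq hn hd))

theorem sim_tpow_of_splits {L : Type w} [Field L] [Algebra k L] [FiniteDimensional k L]
    (h : Curves.Splits k A L) : Sim k (CSAGal.tpow k A (Module.finrank k L)) k := by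
  obtain ⟨B, _, _, _, _, _, hdB, hs, -⟩ := exists_sim_embedding h
  exact sim_tpow_of_sim hs Module.finrank_pos hdB

/-- A splitting field of `A` splits every algebra similar to a tensor power of `A`. -/
theorem splits_of_sim_tpow {B : Type w} [Ring B] [Algebra k B] [Algebra.IsCentral k B] [IsSimpleRing B]
    [FiniteDimensional k B] {i : ℕ} (h : Sim k (CSAGal.tpow k A i) B) {L : Type x} [Field L] [Algebra k L]
    (hA : Curves.Splits k A L) : Curves.Splits k B L :=
  splits_iff_sim_baseChange.2 (h.baseChange.symm.trans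
    ((sim_baseChange_tpow L i).trans (((splits_iff_sim_baseChange.1 hA).tpow i).trans (sim_tpow_self i))))

theorem index_dvd_of_sim_tpow {d : ℕ} (hd : CSAGal.IsIndex k A d) {D : Type w} [DivisionRing D] [Algebra k D]
    [Algebra.IsCentral k D] [FiniteDimensional k D] {i : ℕ} (h : Sim k (CSAGal.tpow k A i) D) {d' : ℕ}
    (hd' : Module.finrank k D = d' ^ 2) : d' ∣ d := by
  obtain ⟨D₀, _, _, _, _, -, hdD, hsim⟩ := isIndex_data hd
  obtain ⟨L, _, _, _, -, hdim, hL, -⟩ := exists_degree_splitting_field hdD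
  exact hdim ▸ dvd_finrank_of_splits hd' (splits_of_sim_tpow h (hsim.symm.splits hL))

end Tpow

/-- Every prime dividing the index divides any exponent killing the class. -/
theorem prime_dvd_of_sim_tpow {D : Type v} [DivisionRing D] [Algebra k D] [Algebra.IsCentral k D]
    [FiniteDimensional k D] {d : ℕ} (hd : Module.finrank k D = d ^ 2) {e : ℕ}
    (h : Sim k (CSAGal.tpow k D e) k) {p : ℕ} (hp : p.Prime) (hpd : p ∣ d) : p ∣ e := by
  by_contra hpe
  have : Fact p.Prime := ⟨hp⟩
  obtain ⟨E, _, _, hE⟩ := exists_galois_splitting k D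
  let P : Sylow p (E ≃ₐ[k] E) := default
  let L := IntermediateField.fixedField (P : Subgroup (E ≃ₐ[k] E))
  have hEL : Module.finrank L E = Nat.card (P : Subgroup (E ≃ₐ[k] E)) :=
    IntermediateField.finrank_fixedField_eq_card _
  obtain ⟨a, ha⟩ := IsPGroup.iff_card.1 P.isPGroup'
  have hLk : ¬p ∣ Module.finrank k L := by
    have h1 := Module.finrank_mul_finrank k L E
    rw [hEL, ← IsGalois.card_aut_eq_finrank k E, ← Subgroup.index_mul_card (P : Subgroup (E ≃ₐ[k] E))] at h1
    have h2 : Module.finrank k L = (P : Subgroup (E ≃ₐ[k] E)).index :=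
      Nat.eq_of_mul_eq_mul_right Nat.card_pos h1
    rw [h2]
    exact P.not_dvd_index
  obtain ⟨_, _, _⟩ := csa_baseChange (k := k) (A := D) L
  obtain ⟨D', _, _, b, _, _, hb0, hdb, hs⟩ := exists_division_sim (k := L) (L ⊗[k] D)
  have hbE : b ∣ p ^ a := by
    have := dvd_finrank_of_splits hdb (hs.splits ((splits_baseChange_iff (L := L) E).2 hE))
    rwa [hEL, ha] at this
  obtain ⟨t, -, rfl⟩ := (Nat.dvd_prime_pow hp).1 hbE
  have he : Sim L (CSAGal.tpow L D' e) L :=
    ((hs.symm.tpow e).trans (sim_baseChange_tpow L e).symm).trans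
      (h.baseChange.trans (.of_algEquiv (Algebra.TensorProduct.rid k L L)))
  have hsplit := sim_self_of_coprime ((hp.coprime_iff_not_dvd.2 hpe).pow_left t)
    ((splits_tpow_iff _).1 (splits_tpow_of_finrank_eq hb0 hdb)) he
  have := dvd_finrank_of_splits hd (splits_iff_sim_baseChange.2 (hs.trans hsplit))
  exact hLk (hpd.trans this)

end Groth.CSA
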