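import Mathlib.RingTheory.SimpleModule.WedderburnArtin
import Mathlib.RingTheory.SimpleRing.Matrix
import Mathlib.LinearAlgebra.Dimension.Constructions
import Mathlib.LinearAlgebra.FiniteDimensional.Basic
/-! # Modules over finite-dimensional simple algebras -/

universe u v w w'

namespace Groth.CSA

variable (k : Type u) [Field k] (R : Type v) [Ring R] [Algebra k R] [IsSimpleRing R] [FiniteDimensional k R]

include k in
theorem isSemisimpleRing_of_simple : IsSemisimpleRing R :=
  have := IsArtinianRing.of_finite k R
  inferInstance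

include k in
/-- One simple left ideal is the type of every module over a simple algebra. -/
theorem exists_simple_type : ∃ S : Submodule R R, IsSimpleModule R S ∧
    ∀ (T : Type w) [AddCommGroup T] [Module R T] [IsSimpleModule R T], Nonempty (T ≃ₗ[R] S) := by
  have := IsArtinianRing.of_finite k R
  obtain ⟨n, -, S, hS, -⟩ := (IsSimpleRing.isIsotypic R R).linearEquiv_fun
  refine ⟨S, hS, fun T _ _ _ => ?_⟩
  have := IsSimpleModule.nontrivial R T
  obtain ⟨t, ht⟩ := exists_ne (0 : T)
  have hne : LinearMap.toSpanSingleton R T t ≠ 0 := fun h => ht <| by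
    simpa using LinearMap.congr_fun h 1
  obtain ⟨U, ⟨e⟩⟩ := LinearMap.linearEquiv_of_ne_zero hne
  have : IsSimpleModule R U := IsSimpleModule.congr e.symm
  obtain ⟨e'⟩ := IsSimpleRing.isIsotypic R R S U
  exact ⟨e.trans e'⟩

theorem exists_linearEquiv_fin_fun : ∃ S : Submodule R R, IsSimpleModule R S ∧ 0 < Module.finrank k S ∧
    ∀ (M : Type w) [AddCommGroup M] [Module R M] [Module k M] [IsScalarTower k R M] [FiniteDimensional k M],
      ∃ m : ℕ, Nonempty (M ≃ₗ[R] (Fin m → S)) ∧ Module.finrank k M = m * Module.finrank k S := by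
  have := isSemisimpleRing_of_simple k R
  obtain ⟨S, hS, h⟩ := exists_simple_type.{u, v, w} k R
  have := IsSimpleModule.nontrivial R S
  have : FiniteDimensional k S :=
    Module.Finite.of_injective (S.subtype.restrictScalars k) S.subtype_injective
  refine ⟨S, hS, Module.finrank_pos, fun M _ _ _ _ _ => ?_⟩
  have : Module.Finite R M := Module.Finite.of_restrictScalars_finite k R M
  obtain ⟨m, ⟨e⟩⟩ := IsIsotypicOfType.linearEquiv_fun
    (show IsIsotypicOfType R M S from fun T _ => h T)
  refine ⟨m, ⟨e⟩, ?_⟩
  rw [(e.restrictScalars k).finrank_eq, Module.finrank_pi_fintype]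
  simp

/-- Modules over a simple algebra of the same dimension are isomorphic. -/
theorem nonempty_linearEquiv_of_finrank_eq (M N : Type w) [AddCommGroup M] [Module R M] [Module k M]
    [IsScalarTower k R M] [FiniteDimensional k M] [AddCommGroup N] [Module R N] [Module k N]
    [IsScalarTower k R N] [FiniteDimensional k N] (h : Module.finrank k M = Module.finrank k N) :
    Nonempty (M ≃ₗ[R] N) := by
  obtain ⟨S, -, hpos, hall⟩ := exists_linearEquiv_fin_fun.{u, v, w} k R
  obtain ⟨m, ⟨e⟩, hm⟩ := hall M
  obtain ⟨n, ⟨f⟩, hn⟩ := hall N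
  obtain rfl : m = n := Nat.eq_of_mul_eq_mul_right hpos (by rw [← hm, ← hn, h])
  exact ⟨e.trans f.symm⟩

/-- The commutant of a simple algebra acting on a module is simple, of complementary dimension. -/
theorem end_isSimpleRing_and_finrank (M : Type v) [AddCommGroup M] [Module R M] [Module k M]
    [IsScalarTower k R M] [FiniteDimensional k M] [Nontrivial M] :
    IsSimpleRing (Module.End R M) ∧
      Module.finrank k (Module.End R M) * Module.finrank k R = Module.finrank k M ^ 2 := by
  classical
  obtain ⟨S, hS, hpos, hall⟩ := exists_linearEquiv_fin_fun.{u, v, v} k R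
  obtain ⟨m, ⟨e⟩, hm⟩ := hall M
  obtain ⟨r, ⟨f⟩, hr⟩ := hall R
  have : Nonempty (Fin m) := by
    refine ⟨⟨0, Nat.pos_of_ne_zero fun h => ?_⟩⟩
    rw [h, zero_mul] at hm
    exact (Module.finrank_pos (R := k) (M := M)).ne' hm
  let E := (e.conjAlgEquiv k).trans (endVecAlgEquivMatrixEnd (Fin m) k R S)
  let F := ((AlgEquiv.moduleEndSelf k (A := R)).trans (f.conjAlgEquiv k)).trans
    (endVecAlgEquivMatrixEnd (Fin r) k R S)
  refine ⟨IsSimpleRing.of_ringEquiv E.symm.toRingEquiv inferInstance, ?_⟩
  have hE := E.toLinearEquiv.finrank_eq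
  have hF : Module.finrank k R = r * r * Module.finrank k (Module.End R S) := by
    rw [(MulOpposite.opLinearEquiv k (M := R)).finrank_eq, F.toLinearEquiv.finrank_eq, Module.finrank_matrix]
    simp
  rw [hE, Module.finrank_matrix, Fintype.card_fin]
  set d := Module.finrank k (Module.End R S)
  set s := Module.finrank k S
  have hs : r * d = s := by
    rcases Nat.eq_zero_or_pos r with h | h
    · rw [h, zero_mul] at hr
      exact absurd hr (Module.finrank_pos (R := k) (M := R)).ne'
    · exact Nat.eq_of_mul_eq_mul_left h (by rw [← mul_assoc, ← hF, hr])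
  rw [hm, hF, ← hs]
  ring

end Groth.CSA
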