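import Groth.Agent.CSA.TensorSimple
import Groth.Agent.CSA.SimpleModules
import Mathlib.Algebra.Azumaya.Basic
import Mathlib.Algebra.Central.Matrix
import Mathlib.Algebra.Central.TensorProduct
import Mathlib.FieldTheory.IsAlgClosed.AlgebraicClosure
import Mathlib.LinearAlgebra.Dimension.Constructions
import Mathlib.LinearAlgebra.FreeModule.Finite.Matrix
import Mathlib.RingTheory.SimpleModule.IsAlgClosed
import Mathlib.RingTheory.TensorProduct.Free
import Groth.Prelude.Def_Curves
/-! # Central simple algebras: base change, opposite, enveloping algebra, descent of finiteness -/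

universe u v w

open scoped TensorProduct

namespace Groth.CSA

variable (k : Type u) [Field k] (A : Type v) [Ring A] [Algebra k A]

theorem isSimpleRing_baseChange [Algebra.IsCentral k A] [IsSimpleRing A]
    (K : Type w) [Field K] [Algebra k K] : IsSimpleRing (K ⊗[k] A) :=
  isSimpleRing_tensor_right k K A

theorem isCentral_of_algEquiv {A : Type v} {B : Type w} [Ring A] [Algebra k A] [Ring B] [Algebra k B]
    (e : A ≃ₐ[k] B) [Algebra.IsCentral k A] : Algebra.IsCentral k B := by
  refine ⟨fun x hx => ?_⟩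
  have hx' : e.symm x ∈ Subalgebra.center k A :=
    Subalgebra.mem_center_iff.2 fun y => e.injective <| by simp [Subalgebra.mem_center_iff.1 hx (e y)]
  obtain ⟨r, hr⟩ := (Algebra.IsCentral.mem_center_iff k).1 hx'
  exact Algebra.mem_bot.2 ⟨r, e.symm.injective (by rw [hr]; exact (e.symm.commutes r))⟩

theorem isCentral_baseChange [Algebra.IsCentral k A] [Nontrivial A]
    (K : Type w) [Field K] [Algebra k K] : Algebra.IsCentral K (K ⊗[k] A) := by
  refine ⟨fun x hx => ?_⟩
  have hx' : Algebra.TensorProduct.comm k K A x ∈ Subalgebra.center k (A ⊗[k] K) := by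
    rw [Subalgebra.mem_center_iff] at hx ⊢
    intro y
    obtain ⟨y, rfl⟩ := (Algebra.TensorProduct.comm k K A).surjective y
    rw [← map_mul, ← map_mul, hx]
  obtain ⟨c, -, hc⟩ := (mem_center_tensor_iff k A K).1 hx'
  refine Algebra.mem_bot.2 ⟨c, (Algebra.TensorProduct.comm k K A).injective ?_⟩
  rw [hc]; simp

theorem mulLeftRight_bijective [Algebra.IsCentral k A] [IsSimpleRing A] [FiniteDimensional k A] :
    Function.Bijective (AlgHom.mulLeftRight k A) := by
  have := isSimpleRing_tensor_left k (A := A) (B := Aᵐᵒᵖ)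
  have h : Function.Injective (AlgHom.mulLeftRight k A) := RingHom.injective (AlgHom.mulLeftRight k A).toRingHom
  refine ⟨h, ?_⟩
  refine (LinearMap.injective_iff_surjective_of_finrank_eq_finrank (f := (AlgHom.mulLeftRight k A).toLinearMap) ?_).1 h
  rw [Module.finrank_tensorProduct, Module.finrank_linearMap, (MulOpposite.opLinearEquiv k (M := A)).finrank_eq]

theorem isAzumaya [Algebra.IsCentral k A] [IsSimpleRing A] [FiniteDimensional k A] : IsAzumaya k A :=
  { bij := mulLeftRight_bijective k A }

theorem exists_finrank_eq_sq [Algebra.IsCentral k A] [IsSimpleRing A] [FiniteDimensional k A] :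
    ∃ n : ℕ, 0 < n ∧ Module.finrank k A = n ^ 2 := by
  have := isSimpleRing_baseChange k A (AlgebraicClosure k)
  obtain ⟨n, hn, ⟨e⟩⟩ := IsSimpleRing.exists_algEquiv_matrix_of_isAlgClosed (AlgebraicClosure k) (AlgebraicClosure k ⊗[k] A)
  refine ⟨n, Nat.pos_of_ne_zero hn.out, ?_⟩
  have h := e.toLinearEquiv.finrank_eq
  rw [Module.finrank_baseChange, Module.finrank_matrix] at h
  simpa [sq] using h

/-- Descent: if some extension of scalars of `A` is finite central simple, so is `A`. -/
theorem finite_of_baseChange (K : Type w) [Field K] [Algebra k K] [Module.Finite K (K ⊗[k] A)] :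
    Module.Finite k A := by
  rw [← Module.rank_lt_aleph0_iff]
  have h := Module.rank_lt_aleph0 K (K ⊗[k] A)
  rw [Module.rank_baseChange] at h
  simpa using h

theorem isSimpleRing_of_baseChange (K : Type w) [Field K] [Algebra k K] [IsSimpleRing (K ⊗[k] A)] :
    IsSimpleRing A := by
  have hinj : Function.Injective (Algebra.TensorProduct.includeRight : A →ₐ[k] K ⊗[k] A) :=
    Algebra.TensorProduct.includeRight_injective (algebraMap k K).injective
  have : Nontrivial A := by
    by_contra h
    rw [not_nontrivial_iff_subsingleton] at h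
    exact one_ne_zero (α := K ⊗[k] A) (by rw [Algebra.TensorProduct.one_def, Subsingleton.elim (1 : A) 0, TensorProduct.tmul_zero])
  refine IsSimpleRing.of_eq_bot_or_eq_top fun I => ?_
  by_cases hI : I = ⊥
  · exact Or.inl hI
  right
  obtain ⟨a, ha, ha0⟩ : ∃ a ∈ I, a ≠ 0 := by
    by_contra! h
    exact hI (eq_bot_iff.2 fun x hx => (TwoSidedIdeal.mem_bot A).2 (h x hx))
  let P : Submodule k A :=
    { carrier := I
      add_mem' := fun hx hy => I.add_mem hx hy
      zero_mem' := I.zero_mem
      smul_mem' := fun r x hx => by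
        show r • x ∈ I
        rw [Algebra.smul_def]; exact I.mul_mem_left _ _ hx }
  have hl : ∀ (x : K ⊗[k] A), ∀ z ∈ LinearMap.range (P.subtype.lTensor K), x * z ∈ LinearMap.range (P.subtype.lTensor K) := by
    rintro x _ ⟨z, rfl⟩
    induction z using TensorProduct.induction_on with
    | zero => simp
    | add y z hy hz => rw [map_add, mul_add]; exact add_mem hy hz
    | tmul c p =>
      induction x using TensorProduct.induction_on with
      | zero => simp
      | add y z hy hz => rw [add_mul]; exact add_mem hy hz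
      | tmul c' a' => exact ⟨(c' * c) ⊗ₜ[k] ⟨a' * p, I.mul_mem_left _ _ p.2⟩, by simp⟩
  have hr : ∀ (x : K ⊗[k] A), ∀ z ∈ LinearMap.range (P.subtype.lTensor K), z * x ∈ LinearMap.range (P.subtype.lTensor K) := by
    rintro x _ ⟨z, rfl⟩
    induction z using TensorProduct.induction_on with
    | zero => simp
    | add y z hy hz => rw [map_add, add_mul]; exact add_mem hy hz
    | tmul c p =>
      induction x using TensorProduct.induction_on with
      | zero => simp
      | add y z hy hz => rw [mul_add]; exact add_mem hy hz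
      | tmul c' a' => exact ⟨(c * c') ⊗ₜ[k] ⟨p * a', I.mul_mem_right _ _ p.2⟩, by simp⟩
  let J : TwoSidedIdeal (K ⊗[k] A) :=
    TwoSidedIdeal.mk' (LinearMap.range (P.subtype.lTensor K)) (zero_mem _) (fun h h' => add_mem h h')
      (fun h => neg_mem h) (fun h => hl _ _ h) (fun h => hr _ _ h)
  have h1 : (1 : K ⊗[k] A) ∈ J := by
    refine IsSimpleRing.one_mem_of_ne_zero_mem (x := (1 : K) ⊗ₜ[k] a) J
      (fun h => ha0 (hinj (h.trans (map_zero _).symm))) ?_
    rw [TwoSidedIdeal.mem_mk']
    exact ⟨1 ⊗ₜ[k] ⟨a, ha⟩, by simp⟩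
  rw [TwoSidedIdeal.mem_mk'] at h1
  obtain ⟨z, hz⟩ := h1
  refine I.one_mem_iff.1 ?_
  by_contra h1I
  have h2 : P.mkQ.lTensor K ((1 : K) ⊗ₜ[k] (1 : A)) = 0 := by
    rw [← Algebra.TensorProduct.one_def, ← hz, ← LinearMap.comp_apply, ← LinearMap.lTensor_comp]
    simp [(LinearMap.exact_subtype_mkQ P).linearMap_comp_eq_zero]
  rw [LinearMap.lTensor_tmul] at h2
  have hne : P.mkQ (1 : A) ≠ 0 := fun h => h1I ((Submodule.Quotient.mk_eq_zero _).1 h)
  have hinj' : Function.Injective ((Algebra.linearMap k K).rTensor (A ⧸ P)) :=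
    Module.Flat.rTensor_preserves_injective_linearMap _ (algebraMap k K).injective
  exact hne ((TensorProduct.lid k (A ⧸ P)).symm.injective <| hinj' <| by simpa using h2)

theorem isCentral_of_baseChange (K : Type w) [Field K] [Algebra k K]
    [Algebra.IsCentral K (K ⊗[k] A)] : Algebra.IsCentral k A := by
  classical
  refine ⟨fun x hx => ?_⟩
  have hx' : ((1 : K) ⊗ₜ[k] x) ∈ Subalgebra.center K (K ⊗[k] A) := by
    rw [Subalgebra.mem_center_iff]
    intro y
    induction y using TensorProduct.induction_on with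
    | zero => simp
    | tmul c a => simp [Subalgebra.mem_center_iff.1 hx a]
    | add y z hy hz => rw [add_mul, mul_add, hy, hz]
  obtain ⟨c, hc⟩ := (Algebra.IsCentral.mem_center_iff K).1 hx'
  rw [Algebra.mem_bot]
  let P : Submodule k A := LinearMap.range (Algebra.linearMap k A)
  suffices hP : x ∈ P by obtain ⟨r, hr⟩ := hP; exact ⟨r, hr⟩
  by_contra hxP
  have h2 : P.mkQ.lTensor K ((1 : K) ⊗ₜ[k] x) = 0 := by
    rw [hc, Algebra.TensorProduct.algebraMap_apply, LinearMap.lTensor_tmul,
      show P.mkQ (1 : A) = 0 from (Submodule.Quotient.mk_eq_zero _).2 ⟨1, by simp⟩, TensorProduct.tmul_zero]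
  rw [LinearMap.lTensor_tmul] at h2
  have hne : P.mkQ x ≠ 0 := fun h => hxP ((Submodule.Quotient.mk_eq_zero _).1 h)
  have hinj' : Function.Injective ((Algebra.linearMap k K).rTensor (A ⧸ P)) :=
    Module.Flat.rTensor_preserves_injective_linearMap _ (algebraMap k K).injective
  exact hne ((TensorProduct.lid k (A ⧸ P)).symm.injective <| hinj' <| by simpa using h2)

/-- An algebra split by some field is finite central simple. -/
theorem csa_of_splits (K : Type w) [Field K] [Algebra k K] (h : Curves.Splits k A K) :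
    Algebra.IsCentral k A ∧ IsSimpleRing A ∧ FiniteDimensional k A := by
  obtain ⟨n, hn, ⟨e⟩⟩ := h
  have : Nonempty (Fin n) := ⟨⟨0, Nat.pos_of_ne_zero hn⟩⟩
  have : IsSimpleRing (K ⊗[k] A) := isSimpleRing_of_algEquiv K e.symm
  have : Algebra.IsCentral K (K ⊗[k] A) := isCentral_of_algEquiv K e.symm
  have : Module.Finite K (K ⊗[k] A) := Module.Finite.equiv e.symm.toLinearEquiv
  exact ⟨isCentral_of_baseChange k A K, isSimpleRing_of_baseChange k A K, finite_of_baseChange k A K⟩

theorem splits_of_isAlgClosed [Algebra.IsCentral k A] [IsSimpleRing A] [FiniteDimensional k A]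
    (K : Type w) [Field K] [Algebra k K] [IsAlgClosed K] : Curves.Splits k A K := by
  have := isSimpleRing_baseChange k A K
  obtain ⟨n, hn, ⟨e⟩⟩ := IsSimpleRing.exists_algEquiv_matrix_of_isAlgClosed K (K ⊗[k] A)
  exact ⟨n, hn.out, ⟨e⟩⟩

end Groth.CSA
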