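import Groth.Agent.CSA.Splitting
import Groth.Prelude.Def_GSzCSA
import Mathlib.LinearAlgebra.Eigenspace.Basic
import Mathlib.FieldTheory.PrimitiveElement
/-! # Cyclic algebras -/

universe u v w x

open scoped TensorProduct

namespace Groth.CSA

/-- A cyclic presentation: data as in `CSAGal.IsCyclicAlg`, with the standing hypotheses. -/
structure CyclicPres (k : Type u) [Field k] (K : Type v) [Field K] [Algebra k K] (σ : K ≃ₐ[k] K) (b : kˣ)
    (A : Type w) [Ring A] [Algebra k A] where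
  ι : K →ₐ[k] A
  y : A
  pow_eq : y ^ Module.finrank k K = algebraMap k A (b : k)
  comm : ∀ x : K, ι x * y = y * ι (σ x)
  gen : Algebra.adjoin k (Set.range ι ∪ {y}) = ⊤
  dim : Module.finrank k A = Module.finrank k K ^ 2

variable {k : Type u} [Field k] {K : Type v} [Field K] [Algebra k K] [FiniteDimensional k K]
  {σ : K ≃ₐ[k] K} {b : kˣ} {A : Type w} [Ring A] [Algebra k A]

omit [FiniteDimensional k K] in
theorem exists_cyclicPres (h : CSAGal.IsCyclicAlg k K σ b A) : Nonempty (CyclicPres k K σ b A) := by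
  obtain ⟨ι, y, h1, h2, h3, -, h4⟩ := h
  exact ⟨⟨ι, y, h1, h2, h3, h4⟩⟩

theorem CyclicPres.isCyclicAlg (P : CyclicPres k K σ b A) : CSAGal.IsCyclicAlg k K σ b A :=
  ⟨P.ι, P.y, P.pow_eq, P.comm, P.gen, Module.finrank_pos, P.dim⟩

namespace CyclicPres

variable (P : CyclicPres k K σ b A)
include P

theorem finite : FiniteDimensional k A :=
  FiniteDimensional.of_finrank_pos (by rw [P.dim]; exact pow_pos Module.finrank_pos 2)

theorem nontrivial : Nontrivial A := by
  have := P.finite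
  exact Module.nontrivial_of_finrank_pos (R := k) (by rw [P.dim]; exact pow_pos Module.finrank_pos 2)

omit [FiniteDimensional k K] in
theorem comm_pow (i : ℕ) (x : K) : P.ι x * P.y ^ i = P.y ^ i * P.ι ((σ ^ i) x) := by
  induction i generalizing x with
  | zero => simp
  | succ i ih => rw [pow_succ, ← mul_assoc, ih, mul_assoc, P.comm, ← mul_assoc, pow_succ' σ, AlgEquiv.mul_apply]

omit [FiniteDimensional k K] in
theorem pow_comm (i : ℕ) (x : K) : P.y ^ i * P.ι x = P.ι ((σ ^ i)⁻¹ x) * P.y ^ i := by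
  rw [P.comm_pow i ((σ ^ i)⁻¹ x)]
  congr 2
  exact (AlgEquiv.apply_symm_apply (σ ^ i) x).symm

theorem isUnit_y : IsUnit P.y := by
  have h : IsUnit (P.y ^ Module.finrank k K) := by
    rw [P.pow_eq]
    exact (IsUnit.map (algebraMap k A) b.isUnit)
  exact (isUnit_pow_iff Module.finrank_pos.ne').1 h

/-- Coordinates. -/
noncomputable def coeff : (Fin (Module.finrank k K) → K) →ₗ[k] A where
  toFun c := ∑ i, P.ι (c i) * P.y ^ (i : ℕ)
  map_add' c d := by simp [add_mul, Finset.sum_add_distrib]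
  map_smul' r c := by simp [Finset.smul_sum]

theorem mul_y_mem (z : A) (hz : z ∈ LinearMap.range P.coeff) : z * P.y ∈ LinearMap.range P.coeff := by
  classical
  obtain ⟨c, rfl⟩ := hz
  show (∑ i, P.ι (c i) * P.y ^ (i : ℕ)) * P.y ∈ _
  rw [Finset.sum_mul]
  refine Submodule.sum_mem _ fun i _ => ?_
  rw [mul_assoc, ← pow_succ]
  by_cases h : (i : ℕ) + 1 < Module.finrank k K
  · exact ⟨Pi.single ⟨_, h⟩ (c i), by
      show (∑ j, P.ι ((Pi.single ⟨_, h⟩ (c i) : Fin (Module.finrank k K) → K) j) * P.y ^ (j : ℕ)) = _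
      rw [Finset.sum_eq_single ⟨_, h⟩ (fun j _ hj => by rw [Pi.single_eq_of_ne hj, map_zero, zero_mul])
        (fun hj => absurd (Finset.mem_univ _) hj), Pi.single_eq_same]⟩
  · have he : (i : ℕ) + 1 = Module.finrank k K := le_antisymm i.2 (not_lt.1 h)
    refine ⟨Pi.single ⟨0, Module.finrank_pos⟩ ((b : k) • c i), ?_⟩
    show (∑ j, P.ι ((Pi.single ⟨0, Module.finrank_pos⟩ ((b : k) • c i) : Fin (Module.finrank k K) → K) j) * P.y ^ (j : ℕ)) = _
    rw [Finset.sum_eq_single ⟨0, Module.finrank_pos⟩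
      (fun j _ hj => by rw [Pi.single_eq_of_ne hj, map_zero, zero_mul])
      (fun hj => absurd (Finset.mem_univ _) hj), Pi.single_eq_same, he, P.pow_eq, map_smul, pow_zero, mul_one,
      Algebra.smul_def, Algebra.commutes]

theorem mul_ι_mem (z : A) (hz : z ∈ LinearMap.range P.coeff) (x : K) : z * P.ι x ∈ LinearMap.range P.coeff := by
  obtain ⟨c, rfl⟩ := hz
  refine ⟨fun i => c i * (σ ^ (i : ℕ))⁻¹ x, ?_⟩
  show (∑ i, P.ι (c i * (σ ^ (i : ℕ))⁻¹ x) * P.y ^ (i : ℕ)) = (∑ i, P.ι (c i) * P.y ^ (i : ℕ)) * P.ι x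
  rw [Finset.sum_mul]
  exact Finset.sum_congr rfl fun i _ => by rw [mul_assoc (P.ι (c i)), P.pow_comm, ← mul_assoc, map_mul]

theorem coeff_surjective : Function.Surjective P.coeff := by
  classical
  have key : ∀ a ∈ Algebra.adjoin k (Set.range P.ι ∪ {P.y}), ∀ z ∈ LinearMap.range P.coeff,
      z * a ∈ LinearMap.range P.coeff := by
    intro a ha
    induction ha using Algebra.adjoin_induction with
    | mem a ha =>
      intro z hz
      rcases ha with ⟨x, rfl⟩ | rfl
      · exact P.mul_ι_mem z hz x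
      · exact P.mul_y_mem z hz
    | algebraMap r =>
      intro z hz
      rw [← Algebra.commutes, ← Algebra.smul_def]
      exact Submodule.smul_mem _ r hz
    | add a a' _ _ iha iha' =>
      intro z hz
      rw [mul_add]; exact add_mem (iha z hz) (iha' z hz)
    | mul a a' _ _ iha iha' =>
      intro z hz
      rw [← mul_assoc]; exact iha' _ (iha z hz)
  have h1 : (1 : A) ∈ LinearMap.range P.coeff := by
    refine ⟨Pi.single ⟨0, Module.finrank_pos⟩ 1, ?_⟩
    show (∑ j, P.ι ((Pi.single ⟨0, Module.finrank_pos⟩ 1 : Fin (Module.finrank k K) → K) j) * P.y ^ (j : ℕ)) = _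
    rw [Finset.sum_eq_single ⟨0, Module.finrank_pos⟩
      (fun j _ hj => by rw [Pi.single_eq_of_ne hj, map_zero, zero_mul])
      (fun hj => absurd (Finset.mem_univ _) hj), Pi.single_eq_same, map_one, pow_zero, mul_one]
  intro a
  have := key a (P.gen ▸ trivial) 1 h1
  rwa [one_mul] at this

theorem coeff_bijective : Function.Bijective P.coeff := by
  have := P.finite
  refine ⟨(LinearMap.injective_iff_surjective_of_finrank_eq_finrank ?_).2 P.coeff_surjective, P.coeff_surjective⟩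
  rw [Module.finrank_pi_fintype, P.dim]
  simp [sq]

theorem exists_eq_ι_of_commute [IsGalois k K] (hσ : ∀ τ : K ≃ₐ[k] K, τ ∈ Subgroup.zpowers σ) (a : A)
    (ha : ∀ x, P.ι x * a = a * P.ι x) : ∃ x, a = P.ι x := by
  classical
  obtain ⟨c, rfl⟩ := P.coeff_surjective a
  have hzero : ∀ i : Fin (Module.finrank k K), (i : ℕ) ≠ 0 → c i = 0 := by
    intro i hi
    by_contra hc
    have hall : ∀ x, (σ ^ (i : ℕ))⁻¹ x = x := by
      intro x
      have h := ha x
      have h1 : P.coeff (fun j => c j * (σ ^ (j : ℕ))⁻¹ x) = P.coeff fun j => x * c j := by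
        show (∑ j, P.ι (c j * (σ ^ (j : ℕ))⁻¹ x) * P.y ^ (j : ℕ)) = ∑ j, P.ι (x * c j) * P.y ^ (j : ℕ)
        change P.ι x * (∑ j, P.ι (c j) * P.y ^ (j : ℕ)) = (∑ j, P.ι (c j) * P.y ^ (j : ℕ)) * P.ι x at h
        rw [Finset.mul_sum, Finset.sum_mul] at h
        simp only [map_mul, mul_assoc, ← P.pow_comm]
        simp only [mul_assoc] at h
        exact h.symm
      have := congrFun (P.coeff_bijective.1 h1) i
      rw [mul_comm x] at this
      exact mul_left_cancel₀ hc this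
    have h1 : σ ^ (i : ℕ) = 1 := inv_eq_one.1 (AlgEquiv.ext hall)
    have hord : orderOf σ = Module.finrank k K := by
      rw [orderOf_eq_card_of_forall_mem_zpowers hσ, IsGalois.card_aut_eq_finrank]
    exact hi (Nat.eq_zero_of_dvd_of_lt (orderOf_dvd_of_pow_eq_one h1) (hord.symm ▸ i.2))
  refine ⟨c ⟨0, Module.finrank_pos⟩, ?_⟩
  show (∑ j, P.ι (c j) * P.y ^ (j : ℕ)) = _
  rw [Finset.sum_eq_single ⟨0, Module.finrank_pos⟩ (fun j _ hj => by
    rw [hzero j (fun h => hj (Fin.ext h)), map_zero, zero_mul])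
    (fun hj => absurd (Finset.mem_univ _) hj)]
  simp

variable [IsGalois k K]

theorem isCentral (hσ : ∀ τ : K ≃ₐ[k] K, τ ∈ Subgroup.zpowers σ) : Algebra.IsCentral k A := by
  refine ⟨fun a ha => ?_⟩
  rw [Subalgebra.mem_center_iff] at ha
  obtain ⟨x, rfl⟩ := P.exists_eq_ι_of_commute hσ a fun x => ha _
  have := P.nontrivial
  have hx : σ x = x := by
    have h := (ha P.y).trans (P.comm x)
    exact RingHom.injective P.ι.toRingHom ((P.isUnit_y.mul_right_inj).1 h.symm)
  obtain ⟨r, rfl⟩ := (IsGalois.mem_range_algebraMap_iff_fixed (F := k) x).2 fun τ => by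
    obtain ⟨n, rfl⟩ := hσ τ
    have : σ ∈ MulAction.stabilizer (K ≃ₐ[k] K) x := hx
    exact Subgroup.zpow_mem _ this n
  exact Algebra.mem_bot.2 ⟨r, (P.ι.commutes r).symm⟩

theorem isSimpleRing (hσ : ∀ τ : K ≃ₐ[k] K, τ ∈ Subgroup.zpowers σ) : IsSimpleRing A := by
  classical
  have := P.nontrivial
  refine IsSimpleRing.of_eq_bot_or_eq_top fun J => or_iff_not_imp_left.2 fun hJ => ?_
  have hord : orderOf σ = Module.finrank k K := by
    rw [orderOf_eq_card_of_forall_mem_zpowers hσ, IsGalois.card_aut_eq_finrank]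
  -- an element of `J` of minimal support
  let supp : (Fin (Module.finrank k K) → K) → ℕ := fun c => (Finset.univ.filter fun i => c i ≠ 0).card
  have hex : ∃ n, ∃ c, c ≠ 0 ∧ P.coeff c ∈ J ∧ supp c = n := by
    obtain ⟨a, ha, ha0⟩ : ∃ a ∈ J, a ≠ 0 := by
      by_contra h
      push Not at h
      exact hJ (eq_bot_iff.2 fun x hx => (TwoSidedIdeal.mem_bot _).2 (h x hx))
    obtain ⟨c, rfl⟩ := P.coeff_surjective a
    exact ⟨supp c, c, fun h => ha0 (by rw [h, map_zero]), ha, rfl⟩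
  obtain ⟨c, hc0, hcJ, hcn⟩ := Nat.find_spec hex
  obtain ⟨i₀, hi₀⟩ := Function.ne_iff.1 hc0
  have honly : ∀ i, i ≠ i₀ → c i = 0 := by
    intro i hi
    by_contra hci
    obtain ⟨x, hx⟩ : ∃ x : K, (σ ^ (i : ℕ))⁻¹ x ≠ (σ ^ (i₀ : ℕ))⁻¹ x := by
      by_contra h
      push Not at h
      refine hi (Fin.ext (pow_injOn_Iio_orderOf ?_ ?_ (inv_injective (AlgEquiv.ext h))))
      · exact hord.symm ▸ i.2
      · exact hord.symm ▸ i₀.2
    let d : Fin (Module.finrank k K) → K := fun j => c j * ((σ ^ (j : ℕ))⁻¹ x - (σ ^ (i₀ : ℕ))⁻¹ x)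
    have hdJ : P.coeff d ∈ J := by
      have e : P.coeff d = P.coeff c * P.ι x - P.ι ((σ ^ (i₀ : ℕ))⁻¹ x) * P.coeff c := by
        show (∑ j, P.ι (d j) * P.y ^ (j : ℕ)) = (∑ j, P.ι (c j) * P.y ^ (j : ℕ)) * P.ι x -
          P.ι ((σ ^ (i₀ : ℕ))⁻¹ x) * ∑ j, P.ι (c j) * P.y ^ (j : ℕ)
        rw [Finset.sum_mul, Finset.mul_sum, ← Finset.sum_sub_distrib]
        refine Finset.sum_congr rfl fun j _ => ?_
        rw [mul_assoc, P.pow_comm, ← mul_assoc, ← mul_assoc, ← map_mul, ← map_mul,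
          mul_comm ((σ ^ (i₀ : ℕ))⁻¹ x), ← sub_mul, ← map_sub, ← mul_sub]
      rw [e]
      exact J.sub_mem (J.mul_mem_right _ _ hcJ) (J.mul_mem_left _ _ hcJ)
    have hd0 : d ≠ 0 := Function.ne_iff.2 ⟨i, mul_ne_zero hci (sub_ne_zero.2 hx)⟩
    have hlt : supp d < supp c := by
      refine Finset.card_lt_card ⟨fun j hj => ?_, fun hsub => ?_⟩
      · simp only [Finset.mem_filter, Finset.mem_univ, true_and] at hj ⊢
        exact fun h => hj (by simp [d, h])
      · have := hsub (Finset.mem_filter.2 ⟨Finset.mem_univ i₀, hi₀⟩)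
        simp [d] at this
    exact Nat.find_min hex (hcn ▸ hlt) ⟨d, hd0, hdJ, rfl⟩
  have hu : IsUnit (P.coeff c) := by
    show IsUnit (∑ j, P.ι (c j) * P.y ^ (j : ℕ))
    rw [Finset.sum_eq_single i₀ (fun j _ hj => by rw [honly j hj, map_zero, zero_mul])
      (fun hj => absurd (Finset.mem_univ _) hj)]
    exact ((IsUnit.mk0 _ hi₀).map P.ι).mul (P.isUnit_y.pow _)
  obtain ⟨u, hu⟩ := hu
  refine eq_top_iff.2 fun a _ => ?_
  have h : ((u⁻¹ : Aˣ) : A) * u ∈ J := J.mul_mem_left _ _ (hu ▸ hcJ)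
  rw [Units.inv_mul] at h
  simpa using J.mul_mem_left a _ h

end CyclicPres

end Groth.CSA
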