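import Groth.Agent.CSA.Basic
/-! # The Skolem–Noether theorem and the double centralizer theorem -/

universe u v w

open scoped TensorProduct

namespace Groth.CSA

variable (k : Type u) [Field k] {A : Type v} [Ring A] [Algebra k A]
  [Algebra.IsCentral k A] [IsSimpleRing A] [FiniteDimensional k A]
  {B : Type w} [Ring B] [Algebra k B] [IsSimpleRing B]

variable (A) in
/-- `A` seen as a module over `A ⊗ Bᵒᵖ` through a map `f : B → A`. -/
noncomputable def actionHom (f : B →ₐ[k] A) : A ⊗[k] Bᵐᵒᵖ →ₐ[k] Module.End k A :=
  (AlgHom.mulLeftRight k A).comp (Algebra.TensorProduct.map (AlgHom.id k A) (AlgHom.op f))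

omit [Algebra.IsCentral k A] [IsSimpleRing A] [FiniteDimensional k A] [IsSimpleRing B] in
theorem actionHom_tmul (f : B →ₐ[k] A) (a : A) (b : B) (x : A) :
    actionHom k A f (a ⊗ₜ[k] MulOpposite.op b) x = a * x * f b := by
  simp [actionHom]

variable (A) in
/-- A type synonym of `A` carrying the module structure of `actionHom`. -/
def Twisted (_f : B →ₐ[k] A) : Type v := A

section Instances
variable (f : B →ₐ[k] A)

noncomputable instance : AddCommGroup (Twisted k A f) := inferInstanceAs (AddCommGroup A)
noncomputable instance : Module k (Twisted k A f) := inferInstanceAs (Module k A)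
instance : FiniteDimensional k (Twisted k A f) := inferInstanceAs (FiniteDimensional k A)
instance [Nontrivial A] : Nontrivial (Twisted k A f) := inferInstanceAs (Nontrivial A)
noncomputable instance : Module (A ⊗[k] Bᵐᵒᵖ) (Twisted k A f) :=
  Module.compHom A (actionHom k A f).toRingHom
instance instIsScalarTowerTwisted : IsScalarTower k (A ⊗[k] Bᵐᵒᵖ) (Twisted k A f) :=
  ⟨fun r s x => by
    show actionHom k A f (r • s) x = r • actionHom k A f s x
    rw [map_smul]; rfl⟩

end Instances

/-- Skolem–Noether. -/
theorem skolem_noether (f g : B →ₐ[k] A) :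
    ∃ x : Aˣ, ∀ b : B, f b = (x : A) * g b * (x⁻¹ : Aˣ) := by
  have : FiniteDimensional k B :=
    Module.Finite.of_injective f.toLinearMap (RingHom.injective f.toRingHom)
  have := isSimpleRing_tensor_left k (A := A) (B := Bᵐᵒᵖ)
  obtain ⟨φ⟩ := nonempty_linearEquiv_of_finrank_eq k (A ⊗[k] Bᵐᵒᵖ) (Twisted k A f) (Twisted k A g) (by rfl)
  let φ' : A → A := φ
  have hφ : ∀ a x b, φ' (a * x * f b) = a * φ' x * g b := by
    intro a x b
    rw [← actionHom_tmul k f a b x, ← actionHom_tmul k g a b (φ' x)]
    exact φ.map_smul (a ⊗ₜ[k] MulOpposite.op b) x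
  have hl : ∀ x, φ' x = x * φ' 1 := fun x => by simpa using hφ x 1 1
  obtain ⟨v, hv⟩ : ∃ v : A, φ' v = 1 := φ.surjective (1 : A)
  rw [hl] at hv
  have : IsArtinianRing A := IsArtinianRing.of_finite k A
  have hu : φ' 1 * v = 1 := mul_eq_one_symm hv
  refine ⟨⟨φ' 1, v, hu, hv⟩, fun b => ?_⟩
  have := hφ 1 1 b
  rw [one_mul, one_mul, one_mul, hl] at this
  show f b = φ' 1 * g b * v
  rw [← this, mul_assoc, hu, mul_one]

variable (B' : Subalgebra k A) [IsSimpleRing B']

omit [Algebra.IsCentral k A] [IsSimpleRing A] [FiniteDimensional k A] [IsSimpleRing B'] in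
/-- The commutant of `A ⊗ B'ᵒᵖ` on `A` is the opposite of the centralizer of `B'`. -/
noncomputable def endEquivCentralizer :
    (Subalgebra.centralizer k (B' : Set A))ᵐᵒᵖ ≃ₐ[k]
      Module.End (A ⊗[k] B'ᵐᵒᵖ) (Twisted k A B'.val) :=
  AlgEquiv.ofBijective
    { toFun := fun c =>
        { toFun := fun x => ((show A from x) * (c.unop : A) : A)
          map_add' := fun x y => add_mul (show A from x) (show A from y) _
          map_smul' := fun r x => by
            show (actionHom k A B'.val r (show A from x) : A) * _ = actionHom k A B'.val r ((show A from x) * _)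
            induction r using TensorProduct.induction_on with
            | zero => rw [map_zero, LinearMap.zero_apply, LinearMap.zero_apply]; exact zero_mul _
            | tmul a b =>
              obtain ⟨b, rfl⟩ := MulOpposite.op_surjective b
              rw [actionHom_tmul, actionHom_tmul]
              simp only [mul_assoc, Subalgebra.coe_val]
              rw [(Subalgebra.mem_centralizer_iff _).1 c.unop.2 _ b.2]
            | add r s hr hs => rw [map_add, LinearMap.add_apply, LinearMap.add_apply, add_mul, hr, hs] }
      map_one' := LinearMap.ext fun x => mul_one (show A from x)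
      map_mul' := fun c d => LinearMap.ext fun x => (mul_assoc (show A from x) _ _).symm
      map_zero' := LinearMap.ext fun x => mul_zero (show A from x)
      map_add' := fun c d => LinearMap.ext fun x => mul_add (show A from x) _ _
      commutes' := fun r => LinearMap.ext fun x => by
        show (show A from x) * algebraMap k A r = r • (show A from x)
        rw [← Algebra.commutes, Algebra.smul_def] }
    ⟨fun c d h => MulOpposite.unop_injective (Subtype.ext (by
        have : (1 : A) * (c.unop : A) = 1 * (d.unop : A) := LinearMap.congr_fun h (show Twisted k A B'.val from (1 : A))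
        simpa using this)),
      fun φ => by
        let φ' : A → A := φ
        have hφ : ∀ a x (b : B'), φ' (a * x * b) = a * φ' x * b := fun a x b => by
          rw [← Subalgebra.coe_val B', ← actionHom_tmul k B'.val a b x, ← actionHom_tmul k B'.val a b (φ' x)]
          exact φ.map_smul (a ⊗ₜ[k] MulOpposite.op b) x
        have hl : ∀ x, φ' x = x * φ' 1 := fun x => by simpa using hφ x 1 1
        refine ⟨MulOpposite.op ⟨φ' 1, (Subalgebra.mem_centralizer_iff _).2 fun b hb => ?_⟩, LinearMap.ext fun x => (hl x).symm⟩
        have h1 := hφ 1 1 ⟨b, hb⟩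
        simp only [one_mul] at h1
        rw [← hl, h1]⟩

theorem centralizer_isSimpleRing_and_finrank :
    IsSimpleRing (Subalgebra.centralizer k (B' : Set A)) ∧
      Module.finrank k A = Module.finrank k B' * Module.finrank k (Subalgebra.centralizer k (B' : Set A)) := by
  have := isSimpleRing_tensor_left k (A := A) (B := B'ᵐᵒᵖ)
  obtain ⟨hs, hd⟩ := end_isSimpleRing_and_finrank k (A ⊗[k] B'ᵐᵒᵖ) (Twisted k A B'.val)
  have e := endEquivCentralizer k B'
  have : IsSimpleRing (Subalgebra.centralizer k (B' : Set A))ᵐᵒᵖ := isSimpleRing_of_algEquiv k e.symm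
  refine ⟨IsSimpleRing.of_ringEquiv (RingEquiv.opOp _).symm inferInstance, ?_⟩
  rw [← e.toLinearEquiv.finrank_eq, ← (MulOpposite.opLinearEquiv k).finrank_eq,
    Module.finrank_tensorProduct, ← (MulOpposite.opLinearEquiv k (M := B')).finrank_eq,
    show Module.finrank k (Twisted k A B'.val) = Module.finrank k A from rfl, sq] at hd
  have hpos : 0 < Module.finrank k A := Module.finrank_pos
  refine (Nat.eq_of_mul_eq_mul_right hpos ?_).symm
  rw [← hd]; ring

theorem centralizer_centralizer :
    Subalgebra.centralizer k (Subalgebra.centralizer k (B' : Set A) : Set A) = B' := by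
  obtain ⟨hC, h1⟩ := centralizer_isSimpleRing_and_finrank k B'
  obtain ⟨-, h2⟩ := centralizer_isSimpleRing_and_finrank k (Subalgebra.centralizer k (B' : Set A))
  refine (Subalgebra.eq_of_le_of_finrank_le ?_ (le_of_eq ?_)).symm
  · exact fun b hb => (Subalgebra.mem_centralizer_iff _).2 fun c hc =>
      ((Subalgebra.mem_centralizer_iff _).1 hc b hb).symm
  · have : Nontrivial (Subalgebra.centralizer k (B' : Set A)) := IsSimpleRing.instNontrivial
    have hpos : 0 < Module.finrank k (Subalgebra.centralizer k (B' : Set A)) := Module.finrank_pos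
    exact Nat.eq_of_mul_eq_mul_left hpos (by rw [← h2, h1, mul_comm])

theorem tensor_centralizer_bijective [Algebra.IsCentral k B'] :
    Function.Bijective (Algebra.TensorProduct.lift B'.val (Subalgebra.centralizer k (B' : Set A)).val
      (fun x y => y.2 x.1 x.2)) := by
  obtain ⟨hC, h1⟩ := centralizer_isSimpleRing_and_finrank k B'
  have := isSimpleRing_tensor_left k (A := B') (B := Subalgebra.centralizer k (B' : Set A))
  let L := Algebra.TensorProduct.lift B'.val (Subalgebra.centralizer k (B' : Set A)).val (fun x y => y.2 x.1 x.2)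
  have h : Function.Injective L := RingHom.injective L.toRingHom
  exact ⟨h, (LinearMap.injective_iff_surjective_of_finrank_eq_finrank (f := L.toLinearMap)
    (by rw [Module.finrank_tensorProduct, h1])).1 h⟩

end Groth.CSA
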