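import Groth.Agent.CSA.Cyclic
import Groth.Agent.S7745
/-! # The universal property of a cyclic algebra -/

universe u v w x

open scoped TensorProduct

namespace Groth.CSA.CyclicPres

variable {k : Type u} [Field k] {K : Type v} [Field K] [Algebra k K] [FiniteDimensional k K]
  {σ : K ≃ₐ[k] K} {b : kˣ} {A : Type w} [Ring A] [Algebra k A] (P : CyclicPres k K σ b A)
include P

theorem exists_algHom {B : Type x} [Ring B] [Algebra k B] (ι' : K →ₐ[k] B) (y' : B)
    (hpow : y' ^ Module.finrank k K = algebraMap k B (b : k))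
    (hcomm : ∀ x : K, ι' x * y' = y' * ι' (σ x)) :
    ∃ f : A →ₐ[k] B, (∀ x, f (P.ι x) = ι' x) ∧ f P.y = y' := by
  classical
  have hpc : ∀ (i : ℕ) (x : K), y' ^ i * ι' x = ι' ((σ ^ i)⁻¹ x) * y' ^ i := by
    have h : ∀ (i : ℕ) (x : K), ι' x * y' ^ i = y' ^ i * ι' ((σ ^ i) x) := by
      intro i
      induction i with
      | zero => simp
      | succ i ih =>
        intro x
        rw [pow_succ, ← mul_assoc, ih, mul_assoc, hcomm, ← mul_assoc, pow_succ' σ, AlgEquiv.mul_apply]
    intro i x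
    rw [h i ((σ ^ i)⁻¹ x)]
    congr 2
    exact (AlgEquiv.apply_symm_apply (σ ^ i) x).symm
  let E := LinearEquiv.ofBijective P.coeff P.coeff_bijective
  let G : (Fin (Module.finrank k K) → K) →ₗ[k] B :=
    { toFun := fun c => ∑ i, ι' (c i) * y' ^ (i : ℕ)
      map_add' := fun c d => by simp [add_mul, Finset.sum_add_distrib]
      map_smul' := fun r c => by simp [Finset.smul_sum] }
  let T : A →ₗ[k] B := G ∘ₗ E.symm.toLinearMap
  have hT : ∀ c, T (P.coeff c) = G c := fun c => congrArg G (E.symm_apply_apply c)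
  have hmono : ∀ (j : Fin (Module.finrank k K)) (x : K), T (P.ι x * P.y ^ (j : ℕ)) = ι' x * y' ^ (j : ℕ) := by
    intro j x
    have e : P.ι x * P.y ^ (j : ℕ) = P.coeff (Pi.single j x) := by
      show _ = ∑ i, P.ι ((Pi.single j x : Fin (Module.finrank k K) → K) i) * P.y ^ (i : ℕ)
      rw [Finset.sum_eq_single j (fun i _ hi => by rw [Pi.single_eq_of_ne hi, map_zero, zero_mul])
        (fun h => absurd (Finset.mem_univ _) h), Pi.single_eq_same]
    rw [e, hT]
    show (∑ i, ι' ((Pi.single j x : Fin (Module.finrank k K) → K) i) * y' ^ (i : ℕ)) = _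
    rw [Finset.sum_eq_single j (fun i _ hi => by rw [Pi.single_eq_of_ne hi, map_zero, zero_mul])
      (fun h => absurd (Finset.mem_univ _) h), Pi.single_eq_same]
  have hι : ∀ x, T (P.ι x) = ι' x := fun x => by
    simpa using hmono ⟨0, Module.finrank_pos⟩ x
  have hy : ∀ z, T (z * P.y) = T z * y' := by
    intro z
    obtain ⟨c, rfl⟩ := P.coeff_surjective z
    rw [hT]
    show T ((∑ i, P.ι (c i) * P.y ^ (i : ℕ)) * P.y) = (∑ i, ι' (c i) * y' ^ (i : ℕ)) * y'
    rw [Finset.sum_mul, Finset.sum_mul, map_sum]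
    refine Finset.sum_congr rfl fun i _ => ?_
    rw [mul_assoc, ← pow_succ, mul_assoc, ← pow_succ]
    by_cases h : (i : ℕ) + 1 < Module.finrank k K
    · exact hmono ⟨_, h⟩ (c i)
    · rw [le_antisymm i.2 (not_lt.1 h), P.pow_eq, hpow, ← Algebra.commutes, ← Algebra.commutes,
        ← Algebra.smul_def, ← Algebra.smul_def, map_smul, hι]
  have hιx : ∀ z x, T (z * P.ι x) = T z * ι' x := by
    intro z x
    obtain ⟨c, rfl⟩ := P.coeff_surjective z
    rw [hT]
    show T ((∑ i, P.ι (c i) * P.y ^ (i : ℕ)) * P.ι x) = (∑ i, ι' (c i) * y' ^ (i : ℕ)) * ι' x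
    rw [Finset.sum_mul, Finset.sum_mul, map_sum]
    refine Finset.sum_congr rfl fun i _ => ?_
    rw [mul_assoc, P.pow_comm, ← mul_assoc, ← map_mul, hmono, map_mul, mul_assoc (ι' (c i)) (y' ^ (i : ℕ)), hpc, ← mul_assoc]
  have h1 : T 1 = 1 := by rw [← map_one P.ι, hι, map_one]
  have hmul : ∀ a z, T (z * a) = T z * T a := by
    intro a
    have ha : a ∈ Algebra.adjoin k (Set.range P.ι ∪ {P.y}) := P.gen ▸ trivial
    induction ha using Algebra.adjoin_induction with
    | mem a ha =>
      intro z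
      rcases ha with ⟨x, rfl⟩ | rfl
      · rw [hιx, hι]
      · rw [hy, ← one_mul P.y, hy, h1, one_mul]
    | algebraMap r =>
      intro z
      rw [← Algebra.commutes, ← Algebra.smul_def, map_smul, Algebra.algebraMap_eq_smul_one, map_smul, h1,
        mul_smul_comm, mul_one]
    | add a a' _ _ iha iha' =>
      intro z
      rw [mul_add, map_add, map_add, iha, iha', mul_add]
    | mul a a' _ _ iha iha' =>
      intro z
      rw [← mul_assoc, iha', iha, mul_assoc, ← iha']
  exact ⟨AlgHom.ofLinearMap T h1 fun p q => hmul q p, hι, by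
    show T P.y = y'
    rw [← one_mul P.y, hy, h1, one_mul]⟩

theorem nonempty_algEquiv [IsGalois k K] (hσ : ∀ τ : K ≃ₐ[k] K, τ ∈ Subgroup.zpowers σ)
    {B : Type x} [Ring B] [Algebra k B] (Q : CyclicPres k K σ b B) : Nonempty (A ≃ₐ[k] B) := by
  have := P.isSimpleRing hσ
  have := P.finite
  have := Q.finite
  have := Q.nontrivial
  obtain ⟨f, -, -⟩ := P.exists_algHom Q.ι Q.y Q.pow_eq Q.comm
  have hinj : Function.Injective f := RingHom.injective f.toRingHom
  exact ⟨AlgEquiv.ofBijective f ⟨hinj,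
    (LinearMap.injective_iff_surjective_of_finrank_eq_finrank (f := f.toLinearMap) (by rw [P.dim, Q.dim])).1 hinj⟩⟩

omit P in
/-- A maximal cyclic subfield presents a central simple algebra as a cyclic algebra. -/
theorem exists_of_embedding [IsGalois k K] [Algebra.IsCentral k A] [IsSimpleRing A] [FiniteDimensional k A]
    (hσ : ∀ τ : K ≃ₐ[k] K, τ ∈ Subgroup.zpowers σ) (ι : K →ₐ[k] A)
    (hA : Module.finrank k A = Module.finrank k K ^ 2) : ∃ b : kˣ, Nonempty (CyclicPres k K σ b A) := by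
  obtain ⟨y, hy, ⟨c, hc⟩, hgen⟩ :=
    Groth.Agent.S7745.result k A K (Module.finrank k K) hA rfl σ hσ ι
  have : Nontrivial A := IsSimpleRing.instNontrivial
  have hc0 : c ≠ 0 := by
    rintro rfl
    rw [map_zero] at hc
    exact (y.isUnit.pow _).ne_zero hc
  exact ⟨Units.mk0 c hc0, ⟨⟨ι, y, hc, hy, hgen, hA⟩⟩⟩

end Groth.CSA.CyclicPres
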