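import Groth.Agent.CSA.Cyclic
/-! # The matrix model of a cyclic algebra -/

universe u v

namespace Groth.CSA

variable {k : Type u} [Field k] {K : Type v} [Field K] [Algebra k K] [FiniteDimensional k K] [IsGalois k K]

theorem exists_cyclic_model (σ : K ≃ₐ[k] K) (hσ : ∀ τ : K ≃ₐ[k] K, τ ∈ Subgroup.zpowers σ) (b : kˣ)
    {m : ℕ} (hm : Module.finrank k K = m) :
    ∃ B : Subalgebra k (Matrix (Fin m) (Fin m) K),
      (∀ M : Matrix (Fin m) (Fin m) K, M ∈ B ↔
        Matrix.of (fun i j : Fin m => if j.val + 1 = i.val then (1 : K)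
            else if i.val = 0 ∧ j.val + 1 = m then algebraMap k K (b : k) else 0) * M.map (fun x => σ x) =
          M * Matrix.of (fun i j : Fin m => if j.val + 1 = i.val then (1 : K)
            else if i.val = 0 ∧ j.val + 1 = m then algebraMap k K (b : k) else 0)) ∧
      Nonempty (CyclicPres k K σ b B) := by
  classical
  have hmpos : 0 < m := hm ▸ Module.finrank_pos
  have hord : orderOf σ = m := by
    rw [orderOf_eq_card_of_forall_mem_zpowers hσ, IsGalois.card_aut_eq_finrank, hm]
  set F : Matrix (Fin m) (Fin m) K := Matrix.of (fun i j : Fin m => if j.val + 1 = i.val then (1 : K)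
    else if i.val = 0 ∧ j.val + 1 = m then algebraMap k K (b : k) else 0) with hF
  have hFmap : F.map (fun x => σ x) = F := by
    ext i j
    simp [F, apply_ite σ]
  let B : Subalgebra k (Matrix (Fin m) (Fin m) K) :=
    { carrier := {M | F * M.map (fun x => σ x) = M * F}
      one_mem' := by
        show F * (1 : Matrix (Fin m) (Fin m) K).map σ = 1 * F
        rw [Matrix.map_one _ (map_zero σ) (map_one σ), mul_one, one_mul]
      zero_mem' := by
        show F * (0 : Matrix (Fin m) (Fin m) K).map σ = 0 * F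
        rw [Matrix.map_zero _ (map_zero σ), mul_zero, zero_mul]
      mul_mem' := fun {M N} hM hN => by
        show F * (M * N).map σ = M * N * F
        rw [Matrix.map_mul, ← mul_assoc, hM, mul_assoc, hN, mul_assoc]
      add_mem' := fun {M N} hM hN => by
        show F * (M + N).map σ = (M + N) * F
        rw [Matrix.map_add _ (map_add σ), mul_add, hM, hN, add_mul]
      algebraMap_mem' := fun r => by
        show F * (algebraMap k (Matrix (Fin m) (Fin m) K) r).map σ = algebraMap k (Matrix (Fin m) (Fin m) K) r * F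
        rw [Algebra.commutes]
        congr 1
        ext i j
        simp [Matrix.algebraMap_matrix_apply, apply_ite σ] }
  have hFB : F ∈ B := by
    show F * F.map (fun x => σ x) = F * F
    rw [hFmap]
  have hσm : σ ^ m = 1 := hord ▸ pow_orderOf_eq_one σ
  have hdB : ∀ x : K, Matrix.diagonal (fun i : Fin m => (σ ^ (i : ℕ)) x) ∈ B := by
    intro x
    show F * (Matrix.diagonal fun i : Fin m => (σ ^ (i : ℕ)) x).map σ = _
    rw [Matrix.diagonal_map (map_zero σ)]
    ext i j
    rw [Matrix.mul_diagonal, Matrix.diagonal_mul]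
    simp only [F, Matrix.of_apply, Function.comp_apply, ← AlgEquiv.mul_apply, ← pow_succ']
    split_ifs with h1 h2
    · rw [h1, mul_comm]
    · rw [h2.1, h2.2, hσm, pow_zero, mul_comm]
    · simp
  let ι : K →ₐ[k] B :=
    { toFun := fun x => ⟨_, hdB x⟩
      map_one' := Subtype.ext (by simp)
      map_mul' := fun x y => Subtype.ext (by simp [Matrix.diagonal_mul_diagonal])
      map_zero' := Subtype.ext (by simp)
      map_add' := fun x y => Subtype.ext (by simp [Matrix.diagonal_add])
      commutes' := fun r => Subtype.ext (by simp [Matrix.algebraMap_eq_diagonal]) }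
  let y : B := ⟨F, hFB⟩
  have hcomm : ∀ x : K, ι x * y = y * ι (σ x) := by
    intro x
    refine Subtype.ext ?_
    show Matrix.diagonal (fun i : Fin m => (σ ^ (i : ℕ)) x) * F = F * Matrix.diagonal (fun i : Fin m => (σ ^ (i : ℕ)) (σ x))
    ext i j
    rw [Matrix.mul_diagonal, Matrix.diagonal_mul]
    simp only [F, Matrix.of_apply, ← AlgEquiv.mul_apply, ← pow_succ]
    split_ifs with h1 h2
    · rw [h1, mul_comm]
    · rw [h2.1, h2.2, hσm, pow_zero, mul_comm]
    · simp
  have hFcol : ∀ (i : ℕ) (hi : i < m) (r : Fin m), (F ^ i) r ⟨0, hmpos⟩ = if r.val = i then 1 else 0 := by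
    intro i
    induction i with
    | zero =>
      intro hi r
      rw [pow_zero, Matrix.one_apply]
      simp [Fin.ext_iff]
    | succ i ih =>
      intro hi r
      rw [pow_succ', Matrix.mul_apply, Finset.sum_eq_single ⟨i, Nat.lt_of_succ_lt hi⟩]
      · rw [ih (Nat.lt_of_succ_lt hi), if_pos rfl, mul_one]
        simp only [F, Matrix.of_apply]
        rw [if_neg (fun h : r.val = 0 ∧ i + 1 = m => absurd h.2 hi.ne)]
        simp [eq_comm]
      · intro l _ hl
        rw [ih (Nat.lt_of_succ_lt hi), if_neg (fun h => hl (Fin.ext h)), mul_zero]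
      · exact fun h => absurd (Finset.mem_univ _) h
  let col : B →ₗ[k] (Fin m → K) :=
    { toFun := fun M r => (M : Matrix (Fin m) (Fin m) K) r ⟨0, hmpos⟩
      map_add' := fun _ _ => rfl
      map_smul' := fun _ _ => rfl }
  have hcol_inj : Function.Injective col := by
    rw [← LinearMap.ker_eq_bot, LinearMap.ker_eq_bot']
    intro M hM
    refine Subtype.ext (Matrix.ext fun r j => ?_)
    obtain ⟨j, hj⟩ := j
    induction j generalizing r with
    | zero => exact congrFun hM r
    | succ j ih =>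
      have h := congrFun (congrFun M.2.symm r) ⟨j, Nat.lt_of_succ_lt hj⟩
      rw [Matrix.mul_apply, Matrix.mul_apply, Finset.sum_eq_single ⟨j + 1, hj⟩ _ (fun h => absurd (Finset.mem_univ _) h),
        Finset.sum_eq_zero] at h
      · simpa [F] using h
      · intro l _
        rw [Matrix.map_apply, ih l (Nat.lt_of_succ_lt hj)]
        simp
      · intro l _ hl
        simp only [F, Matrix.of_apply]
        rw [if_neg (fun e => hl (Fin.ext e.symm)), if_neg (fun e => absurd e.2 hj.ne), mul_zero]
  let comb : (Fin m → K) → B := fun c => ∑ i : Fin m, ι (c i) * y ^ (i : ℕ)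
  have hcomb : ∀ c, col (comb c) = fun r : Fin m => (σ ^ (r : ℕ)) (c r) := by
    intro c
    funext r
    show ((∑ i : Fin m, ι (c i) * y ^ (i : ℕ) : B) : Matrix (Fin m) (Fin m) K) r ⟨0, hmpos⟩ = _
    rw [AddSubmonoidClass.coe_finsetSum, Matrix.sum_apply, Finset.sum_eq_single r _ (fun h => absurd (Finset.mem_univ _) h)]
    · show ((Matrix.diagonal fun j : Fin m => (σ ^ (j : ℕ)) (c r)) * F ^ (r : ℕ)) r ⟨0, hmpos⟩ = _
      rw [Matrix.diagonal_mul, hFcol _ r.2, if_pos rfl, mul_one]
    · intro i _ hi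
      show ((Matrix.diagonal fun j : Fin m => (σ ^ (j : ℕ)) (c i)) * F ^ (i : ℕ)) r ⟨0, hmpos⟩ = _
      rw [Matrix.diagonal_mul, hFcol _ i.2, if_neg (fun h => hi (Fin.ext h.symm)), mul_zero]
  have hsurj : ∀ v : Fin m → K, ∃ c, col (comb c) = v := fun v =>
    ⟨fun r => (σ ^ (r : ℕ))⁻¹ (v r), by
      rw [hcomb]; funext r; exact AlgEquiv.apply_symm_apply (σ ^ (r : ℕ)) (v r)⟩
  have hgen : Algebra.adjoin k (Set.range ι ∪ {y}) = ⊤ := by
    rw [_root_.eq_top_iff]
    rintro M -
    obtain ⟨c, hc⟩ := hsurj (col M)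
    rw [← hcol_inj hc]
    exact Subalgebra.sum_mem _ fun i _ => mul_mem (Algebra.subset_adjoin (Or.inl ⟨_, rfl⟩))
      (pow_mem (Algebra.subset_adjoin (show y ∈ Set.range ι ∪ {y} from Or.inr rfl)) _)
  have hdim : Module.finrank k B = Module.finrank k K ^ 2 := by
    rw [(LinearEquiv.ofBijective col ⟨hcol_inj, fun v => (hsurj v).elim fun c hc => ⟨_, hc⟩⟩).finrank_eq,
      Module.finrank_pi_fintype]
    simp [hm, sq]
  have hpow : y ^ Module.finrank k K = algebraMap k B (b : k) := by
    refine hcol_inj (funext fun r => ?_)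
    show ((y ^ Module.finrank k K : B) : Matrix (Fin m) (Fin m) K) r ⟨0, hmpos⟩ = _
    rw [hm, show ((y ^ m : B) : Matrix (Fin m) (Fin m) K) = F ^ m from rfl,
      show F ^ m = F ^ (m - 1 + 1) by rw [Nat.sub_add_cancel hmpos], pow_succ', Matrix.mul_apply,
      Finset.sum_eq_single ⟨m - 1, Nat.sub_lt hmpos one_pos⟩]
    · rw [hFcol _ (Nat.sub_lt hmpos one_pos), if_pos rfl, mul_one]
      show _ = (algebraMap k (Matrix (Fin m) (Fin m) K) (b : k)) r ⟨0, hmpos⟩
      simp only [F, Matrix.of_apply, Matrix.algebraMap_matrix_apply, Nat.sub_add_cancel hmpos]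
      rw [(Nat.sub_add_cancel hmpos : m - 1 + 1 = m), if_neg (fun e => absurd e r.2.ne')]
      simp [Fin.ext_iff]
    · intro l _ hl
      rw [hFcol _ (Nat.sub_lt hmpos one_pos), if_neg (fun h => hl (Fin.ext h)), mul_zero]
    · exact fun h => absurd (Finset.mem_univ _) h
  exact ⟨B, fun M => Iff.rfl, ⟨⟨ι, y, hpow, hcomm, hgen, hdim⟩⟩⟩

end Groth.CSA
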