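import Groth.Agent.CSA.Wedderburn
import Groth.Agent.CSA.BaseChange
import Groth.Agent.CSA.Splitting
import Mathlib.RingTheory.MatrixAlgebra
import Mathlib.Algebra.Algebra.Shrink
import Mathlib.Logic.Small.Basic
/-! # Brauer equivalence (similarity) of algebras -/

universe u v w x y z

open scoped TensorProduct

namespace Groth.CSA

variable (k : Type u) [Field k]

/-- Similarity: some matrix algebras of positive sizes are isomorphic. -/
def Sim (A : Type v) (B : Type w) [Ring A] [Algebra k A] [Ring B] [Algebra k B] : Prop :=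
  ∃ n m : ℕ, n ≠ 0 ∧ m ≠ 0 ∧ Nonempty (Matrix (Fin n) (Fin n) A ≃ₐ[k] Matrix (Fin m) (Fin m) B)

variable {k}
variable {A : Type v} [Ring A] [Algebra k A] {B : Type w} [Ring B] [Algebra k B]
  {C : Type x} [Ring C] [Algebra k C]

/-- `M_a(M_b(A)) ≅ M_{ab}(A)`. -/
def matMat (a b : ℕ) (A : Type v) [Ring A] [Algebra k A] :
    Matrix (Fin a) (Fin a) (Matrix (Fin b) (Fin b) A) ≃ₐ[k] Matrix (Fin (a * b)) (Fin (a * b)) A :=
  (Matrix.compAlgEquiv (Fin a) (Fin b) A k).trans (Matrix.reindexAlgEquiv k A finProdFinEquiv)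

variable (k) in
/-- `M_1(A) ≅ A`. -/
def matOne (A : Type v) [Ring A] [Algebra k A] : Matrix (Fin 1) (Fin 1) A ≃ₐ[k] A :=
  AlgEquiv.ofLinearEquiv
    { toFun := fun M => M 0 0
      invFun := fun a => Matrix.of fun _ _ => a
      map_add' := fun _ _ => rfl
      map_smul' := fun _ _ => rfl
      left_inv := fun M => Matrix.ext fun i j => by rw [Subsingleton.elim i 0, Subsingleton.elim j 0]; rfl
      right_inv := fun _ => rfl }
    (Matrix.one_apply_eq 0) fun M N => by simp [Matrix.mul_apply]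

theorem Sim.of_algEquiv (e : A ≃ₐ[k] B) : Sim k A B :=
  ⟨1, 1, one_ne_zero, one_ne_zero, ⟨e.mapMatrix⟩⟩

theorem Sim.refl (A : Type v) [Ring A] [Algebra k A] : Sim k A A := .of_algEquiv AlgEquiv.refl

theorem Sim.symm (h : Sim k A B) : Sim k B A := by
  obtain ⟨n, m, hn, hm, ⟨e⟩⟩ := h
  exact ⟨m, n, hm, hn, ⟨e.symm⟩⟩

theorem Sim.trans (h : Sim k A B) (h' : Sim k B C) : Sim k A C := by
  obtain ⟨n, m, hn, hm, ⟨e⟩⟩ := h
  obtain ⟨p, q, hp, hq, ⟨f⟩⟩ := h'
  refine ⟨p * n, m * q, mul_ne_zero hp hn, mul_ne_zero hm hq, ⟨?_⟩⟩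
  exact ((matMat p n A).symm.trans (e.mapMatrix.trans ((matMat p m B).trans
    ((Matrix.reindexAlgEquiv k B (finCongr (mul_comm p m))).trans
      ((matMat m p B).symm.trans (f.mapMatrix.trans (matMat m q C)))))))

theorem Sim.matrix {n : ℕ} (hn : n ≠ 0) (A : Type v) [Ring A] [Algebra k A] :
    Sim k (Matrix (Fin n) (Fin n) A) A :=
  ⟨1, n, one_ne_zero, hn, ⟨matOne k _⟩⟩

theorem Sim.op (h : Sim k A B) : Sim k Aᵐᵒᵖ Bᵐᵒᵖ := by
  obtain ⟨n, m, hn, hm, ⟨e⟩⟩ := h
  refine ⟨n, m, hn, hm, ⟨?_⟩⟩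
  let t : ∀ (i : ℕ) (R : Type v) [Ring R] [Algebra k R],
      Matrix (Fin i) (Fin i) Rᵐᵒᵖ ≃ₐ[k] (Matrix (Fin i) (Fin i) R)ᵐᵒᵖ := fun i R _ _ =>
    AlgEquiv.ofLinearEquiv
      { toFun := fun M => MulOpposite.op (M.transpose.map MulOpposite.unop)
        invFun := fun M => M.unop.transpose.map MulOpposite.op
        map_add' := fun _ _ => rfl
        map_smul' := fun _ _ => rfl
        left_inv := fun _ => rfl
        right_inv := fun _ => rfl }
      (MulOpposite.unop_injective (by
        ext a b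
        simp [Matrix.one_apply, eq_comm (a := a), apply_ite MulOpposite.unop]))
      fun M N => MulOpposite.unop_injective (by
        ext a b
        simp [Matrix.mul_apply, Finset.unop_sum])
  let t' : ∀ (i : ℕ) (R : Type w) [Ring R] [Algebra k R],
      Matrix (Fin i) (Fin i) Rᵐᵒᵖ ≃ₐ[k] (Matrix (Fin i) (Fin i) R)ᵐᵒᵖ := fun i R _ _ =>
    AlgEquiv.ofLinearEquiv
      { toFun := fun M => MulOpposite.op (M.transpose.map MulOpposite.unop)
        invFun := fun M => M.unop.transpose.map MulOpposite.op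
        map_add' := fun _ _ => rfl
        map_smul' := fun _ _ => rfl
        left_inv := fun _ => rfl
        right_inv := fun _ => rfl }
      (MulOpposite.unop_injective (by
        ext a b
        simp [Matrix.one_apply, eq_comm (a := a), apply_ite MulOpposite.unop]))
      fun M N => MulOpposite.unop_injective (by
        ext a b
        simp [Matrix.mul_apply, Finset.unop_sum])
  exact ((t n A).trans e.op).trans (t' m B).symm

/-- `M_n(A) ⊗ B ≅ M_n(A ⊗ B)`. -/
noncomputable def matrixTensor (n : ℕ) (A : Type v) [Ring A] [Algebra k A] (B : Type w) [Ring B] [Algebra k B] :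
    Matrix (Fin n) (Fin n) A ⊗[k] B ≃ₐ[k] Matrix (Fin n) (Fin n) (A ⊗[k] B) :=
  ((Algebra.TensorProduct.congr AlgEquiv.refl (Matrix.uniqueAlgEquiv (m := Unit) (A := B) (R := k)).symm).trans
    (Matrix.kroneckerTMulAlgEquiv (Fin n) Unit k k A B)).trans
      (Matrix.reindexAlgEquiv k (A ⊗[k] B) (Equiv.prodPUnit (Fin n)))

theorem Sim.tensor_right (h : Sim k A B) (C : Type x) [Ring C] [Algebra k C] :
    Sim k (A ⊗[k] C) (B ⊗[k] C) := by
  obtain ⟨n, m, hn, hm, ⟨e⟩⟩ := h
  exact ⟨n, m, hn, hm, ⟨(matrixTensor n A C).symm.trans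
    ((Algebra.TensorProduct.congr e AlgEquiv.refl).trans (matrixTensor m B C))⟩⟩

theorem Sim.tensor_left (h : Sim k A B) (C : Type x) [Ring C] [Algebra k C] :
    Sim k (C ⊗[k] A) (C ⊗[k] B) :=
  ((Sim.of_algEquiv (Algebra.TensorProduct.comm k C A)).trans (h.tensor_right C)).trans
    (.of_algEquiv (Algebra.TensorProduct.comm k B C))

theorem Sim.tensor {A' : Type y} [Ring A'] [Algebra k A'] {B' : Type z} [Ring B'] [Algebra k B']
    (h : Sim k A B) (h' : Sim k A' B') : Sim k (A ⊗[k] A') (B ⊗[k] B') :=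
  (h.tensor_right A').trans (h'.tensor_left B)

section csa

variable [Algebra.IsCentral k A] [IsSimpleRing A] [FiniteDimensional k A]

theorem Sim.exists_common [Algebra.IsCentral k B] [IsSimpleRing B] [FiniteDimensional k B] (h : Sim k A B) :
    ∃ (n m : ℕ) (_ : NeZero n) (_ : NeZero m) (D : Type v) (_ : DivisionRing D) (_ : Algebra k D),
      FiniteDimensional k D ∧
        Nonempty (A ≃ₐ[k] Matrix (Fin n) (Fin n) D) ∧ Nonempty (B ≃ₐ[k] Matrix (Fin m) (Fin m) D) := by
  obtain ⟨r, s, hr, hs, ⟨e⟩⟩ := h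
  obtain ⟨p, hp, D, _, _, -, hD, ⟨f⟩⟩ := exists_matrix_divisionRing k A
  obtain ⟨q, hq, D', _, _, -, hD', ⟨f'⟩⟩ := exists_matrix_divisionRing k B
  have : NeZero (r * p) := ⟨mul_ne_zero hr (NeZero.ne p)⟩
  have : NeZero (s * q) := ⟨mul_ne_zero hs (NeZero.ne q)⟩
  obtain ⟨-, ⟨φ⟩⟩ := matrix_divisionRing_unique k D D'
    (((f.mapMatrix.trans (matMat r p D)).symm.trans e).trans (f'.mapMatrix.trans (matMat s q D')))
  exact ⟨p, q, hp, hq, D, _, _, hD, ⟨f⟩, ⟨f'.trans φ.symm.mapMatrix⟩⟩

/-- Similar central simple algebras of equal dimension are isomorphic. -/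
theorem Sim.nonempty_algEquiv [Algebra.IsCentral k B] [IsSimpleRing B] [FiniteDimensional k B] (h : Sim k A B)
    (hd : Module.finrank k A = Module.finrank k B) : Nonempty (A ≃ₐ[k] B) := by
  obtain ⟨n, m, _, _, D, _, _, _, ⟨f⟩, ⟨g⟩⟩ := h.exists_common
  rw [f.toLinearEquiv.finrank_eq, g.toLinearEquiv.finrank_eq, Module.finrank_matrix, Module.finrank_matrix,
    Fintype.card_fin, Fintype.card_fin] at hd
  obtain rfl : n = m := Nat.mul_self_inj.1 (Nat.eq_of_mul_eq_mul_right Module.finrank_pos hd)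
  exact ⟨f.trans g.symm⟩

theorem Sim.splits [Algebra.IsCentral k B] [IsSimpleRing B] [FiniteDimensional k B] (h : Sim k A B)
    {K : Type y} [Field K] [Algebra k K] (hA : Curves.Splits k A K) : Curves.Splits k B K := by
  obtain ⟨n, m, hn, hm, D, _, _, hD, ⟨f⟩, ⟨g⟩⟩ := h.exists_common
  have hDc : Algebra.IsCentral k D := by
    have := isCentral_of_algEquiv k f
    exact isCentral_of_matrix k (n := Fin n) D
  have hDK : Curves.Splits k D K := by
    have := isSimpleRing_baseChange k D K
    have := isCentral_baseChange k D K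
    have : FiniteDimensional K (K ⊗[k] D) := inferInstance
    obtain ⟨N, hN, ⟨φ⟩⟩ := splits_congr f hA
    have : NeZero N := ⟨hN⟩
    obtain ⟨r, hr, E, _, _, -, hE, ⟨ψ⟩⟩ := exists_matrix_divisionRing K (K ⊗[k] D)
    have : NeZero (n * r) := ⟨mul_ne_zero (NeZero.ne n) (NeZero.ne r)⟩
    obtain ⟨-, ⟨χ⟩⟩ := matrix_divisionRing_unique K E K
      (((ψ.mapMatrix.trans (matMat n r E)).symm.trans (baseChangeMatrix k K D (Fin n)).symm).trans φ)
    exact ⟨r, NeZero.ne r, ⟨ψ.trans χ.mapMatrix⟩⟩
  exact splits_congr g.symm (splits_matrix (NeZero.ne m) hDK)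

theorem splits_self_iff_sim : Curves.Splits k A k ↔ Sim k A k := by
  constructor
  · rintro ⟨n, hn, ⟨e⟩⟩
    exact ⟨1, n, one_ne_zero, hn, ⟨(matOne k A).trans ((Algebra.TensorProduct.lid k A).symm.trans e)⟩⟩
  · intro h
    exact h.symm.splits ⟨1, one_ne_zero, ⟨(Algebra.TensorProduct.lid k k).trans (matOne k k).symm⟩⟩

end csa

/-- An algebra is similar to the opposite commutant of any of its modules. -/
theorem sim_end_op [IsSimpleRing A] [FiniteDimensional k A] (V : Type v) [AddCommGroup V] [Module A V] [Module k V]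
    [IsScalarTower k A V] [FiniteDimensional k V] [Nontrivial V] :
    Sim k A (Module.End A V)ᵐᵒᵖ := by
  have : Nontrivial A := IsSimpleRing.instNontrivial
  have hA : 0 < Module.finrank k A := Module.finrank_pos
  have hV : 0 < Module.finrank k V := Module.finrank_pos
  obtain ⟨φ⟩ := nonempty_linearEquiv_of_finrank_eq k A (Fin (Module.finrank k V) → A) (Fin (Module.finrank k A) → V)
    (by simp [Module.finrank_pi_fintype, mul_comm])
  let Φ : Matrix (Fin (Module.finrank k V)) (Fin (Module.finrank k V)) (Module.End A A) ≃ₐ[k]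
      Matrix (Fin (Module.finrank k A)) (Fin (Module.finrank k A)) (Module.End A V) :=
    (endVecAlgEquivMatrixEnd (Fin (Module.finrank k V)) k A A).symm.trans
      ((φ.conjAlgEquiv k).trans (endVecAlgEquivMatrixEnd (Fin (Module.finrank k A)) k A V))
  have h1 : Sim k Aᵐᵒᵖ (Module.End A V) :=
    ⟨_, _, hV.ne', hA.ne', ⟨(AlgEquiv.moduleEndSelf k (A := A)).mapMatrix.trans Φ⟩⟩
  exact (Sim.of_algEquiv (AlgEquiv.opOp k A)).trans h1.op

/-- A splitting field of degree `m` is embedded in a similar algebra of degree `m`. -/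
theorem exists_sim_embedding [Algebra.IsCentral k A] [IsSimpleRing A] [FiniteDimensional k A]
    {K : Type y} [Field K] [Algebra k K] [FiniteDimensional k K] (h : Curves.Splits k A K) :
    ∃ (B : Type v) (_ : Ring B) (_ : Algebra k B), Algebra.IsCentral k B ∧ IsSimpleRing B ∧
      FiniteDimensional k B ∧ Module.finrank k B = Module.finrank k K ^ 2 ∧ Sim k A B ∧
        Nonempty (K →ₐ[k] B) := by
  obtain ⟨n, hn, ⟨e⟩⟩ := h
  have : Small.{v} k := small_of_injective (algebraMap k A).injective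
  have : Small.{v} K := small_map (Module.finBasis k K).equivFun.toEquiv
  let V := Shrink.{v} (Fin n → K)
  let α : K ⊗[k] A →ₐ[K] Module.End K (Fin n → K) := (Matrix.toLinAlgEquiv' (R := K) (n := Fin n)).toAlgHom.comp e.toAlgHom
  let β : Module.End K (Fin n → K) →ₐ[k] Module.End k (Fin n → K) :=
    { toFun := fun f => f.restrictScalars k
      map_one' := rfl
      map_mul' := fun _ _ => rfl
      map_zero' := rfl
      map_add' := fun _ _ => rfl
      commutes' := fun r => LinearMap.ext fun v => by simp [Algebra.algebraMap_eq_smul_one] }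
  let γ : Module.End k (Fin n → K) ≃ₐ[k] Module.End k V := (Shrink.linearEquiv.{v} k (Fin n → K)).symm.conjAlgEquiv k
  let ρ : A →ₐ[k] Module.End k V :=
    γ.toAlgHom.comp (β.comp ((α.restrictScalars k).comp Algebra.TensorProduct.includeRight))
  letI : Module A V := Module.compHom V ρ.toRingHom
  have : IsScalarTower k A V := ⟨fun r a v => by
    show ρ (r • a) v = r • ρ a v
    rw [map_smul]; rfl⟩
  have : FiniteDimensional k V := Module.Finite.equiv (Shrink.linearEquiv.{v} k (Fin n → K)).symm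
  have hdV : Module.finrank k V = n * Module.finrank k K := by
    rw [(Shrink.linearEquiv.{v} k (Fin n → K)).finrank_eq, Module.finrank_pi_fintype]
    simp
  have : Nontrivial V := Module.nontrivial_of_finrank_pos (R := k)
    (by rw [hdV]; exact Nat.mul_pos (Nat.pos_of_ne_zero hn) Module.finrank_pos)
  obtain ⟨hS, hd⟩ := end_isSimpleRing_and_finrank k A V
  have hdA : Module.finrank k A = n ^ 2 := by
    have h := e.toLinearEquiv.finrank_eq
    rwa [Module.finrank_baseChange, Module.finrank_matrix, Module.finrank_self, Fintype.card_fin, mul_one, ← sq] at h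
  have hsim : Sim k A (Module.End A V)ᵐᵒᵖ := sim_end_op V
  have : IsSimpleRing (Module.End A V)ᵐᵒᵖ := IsSimpleRing.of_ringEquiv (RingEquiv.refl _) inferInstance
  have hdE : Module.finrank k (Module.End A V)ᵐᵒᵖ = Module.finrank k K ^ 2 := by
    rw [← (MulOpposite.opLinearEquiv k).finrank_eq]
    refine Nat.eq_of_mul_eq_mul_right (show 0 < Module.finrank k A from Module.finrank_pos) ?_
    rw [hd, hdV, hdA]; ring
  have : FiniteDimensional k (Module.End A V)ᵐᵒᵖ :=
    FiniteDimensional.of_finrank_pos (by rw [hdE]; exact pow_pos Module.finrank_pos 2)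
  have hC : Algebra.IsCentral k (Module.End A V)ᵐᵒᵖ := by
    obtain ⟨r, s, hr, hs, ⟨f⟩⟩ := hsim
    have : NeZero r := ⟨hr⟩
    have : NeZero s := ⟨hs⟩
    have := isCentral_of_algEquiv k f
    exact isCentral_of_matrix k (n := Fin s) _
  refine ⟨(Module.End A V)ᵐᵒᵖ, inferInstance, inferInstance, hC, inferInstance, inferInstance, hdE, hsim, ⟨?_⟩⟩
  let L : K →ₐ[k] Module.End k V := γ.toAlgHom.comp (Algebra.lsmul k k (Fin n → K))
  have hcomm : ∀ c a v, L c (ρ a v) = ρ a (L c v) := fun c a v => by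
    simp [L, ρ, γ, β]
  let M : K →ₐ[k] Module.End A V :=
    { toFun := fun c => { toFun := L c, map_add' := map_add (L c), map_smul' := fun a v => hcomm c a v }
      map_one' := LinearMap.ext fun v => LinearMap.congr_fun (map_one L) v
      map_mul' := fun c d => LinearMap.ext fun v => LinearMap.congr_fun (map_mul L c d) v
      map_zero' := LinearMap.ext fun v => LinearMap.congr_fun (map_zero L) v
      map_add' := fun c d => LinearMap.ext fun v => LinearMap.congr_fun (map_add L c d) v
      commutes' := fun r => LinearMap.ext fun v => LinearMap.congr_fun (L.commutes r) v }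
  exact M.toOpposite fun c d => by
    show M c * M d = M d * M c
    rw [← map_mul, mul_comm, map_mul]

end Groth.CSA
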