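import Groth.Agent.CSA.CyclicHom
import Groth.Agent.CSA.CyclicModel
import Groth.Agent.CSA.Similar
import Groth.Agent.CSA.TensorBC
import Mathlib.RingTheory.Norm.Transitivity
import Mathlib.FieldTheory.Galois.Basic
import Mathlib.LinearAlgebra.LinearIndependent.Lemmas
import Mathlib.GroupTheory.SpecificGroups.Cyclic
/-! # Products and splitting of cyclic algebras -/

universe u v w x

open scoped TensorProduct

namespace Groth.CSA

/-- A central simple algebra with as many orthogonal idempotents as its degree is split. -/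
theorem sim_of_idempotents {k : Type u} [Field k] (D : Type v) [Ring D] [Algebra k D] [Algebra.IsCentral k D]
    [IsSimpleRing D] [FiniteDimensional k D] {ι : Type w} [Fintype ι]
    (hd : Module.finrank k D = Fintype.card ι ^ 2) (e : ι → D) (he : ∀ i, e i * e i = e i)
    (hne : ∀ i, e i ≠ 0) (horth : ∀ i j, i ≠ j → e i * e j = 0) : Sim k D k := by
  classical
  obtain ⟨r, hr, Δ, _, _, -, hΔ, ⟨f⟩⟩ := exists_matrix_divisionRing k D
  let M : ι → Matrix (Fin r) (Fin r) Δ := fun i => f (e i)
  have hcol : ∀ i, ∃ c, (fun a => M i a c) ≠ 0 := fun i => by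
    by_contra h
    push Not at h
    exact hne i (f.injective (by rw [map_zero]; exact Matrix.ext fun a c => congrFun (h c) a))
  choose c hc using hcol
  let v : ι → (Fin r → Δ) := fun i a => M i a (c i)
  have hMv : ∀ i j, (M i).mulVec (v j) = if i = j then v j else 0 := by
    intro i j
    funext a
    show ∑ l, M i a l * M j l (c j) = _
    rw [← Matrix.mul_apply]
    show (f (e i) * f (e j)) a (c j) = _
    rw [← map_mul]
    split_ifs with h
    · subst h; rw [he]
    · rw [horth i j h, map_zero]; rfl
  have hli : LinearIndependent Δᵐᵒᵖ v := by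
    rw [Fintype.linearIndependent_iff]
    intro g hg i
    have h := congrArg (M i).mulVec hg
    rw [Matrix.mulVec_sum, Matrix.mulVec_zero, Finset.sum_eq_single i] at h
    · rw [Matrix.mulVec_smul, hMv, if_pos rfl] at h
      by_contra hgi
      exact hc i (funext fun a => by
        have := congrFun h a
        simp only [Pi.smul_apply, MulOpposite.smul_eq_mul_unop, Pi.zero_apply, mul_eq_zero] at this
        exact this.resolve_right (fun h0 => hgi (MulOpposite.unop_eq_zero_iff _ |>.1 h0)))
    · intro j _ hj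
      rw [Matrix.mulVec_smul, hMv, if_neg (Ne.symm hj), smul_zero]
    · exact fun h => absurd (Finset.mem_univ _) h
  have : Module.Finite Δᵐᵒᵖ Δ := Module.Finite.equiv (MulOpposite.opLinearEquiv Δᵐᵒᵖ (M := Δ)).symm
  have hle := hli.fintype_card_le_finrank
  rw [Module.finrank_pi_fintype] at hle
  have hfr : Module.finrank Δᵐᵒᵖ Δ = 1 := by
    rw [← (MulOpposite.opLinearEquiv Δᵐᵒᵖ (M := Δ)).finrank_eq.symm]
    exact Module.finrank_self _
  simp only [hfr, Finset.sum_const, Finset.card_univ, Fintype.card_fin, smul_eq_mul, mul_one] at hle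
  have h := f.toLinearEquiv.finrank_eq
  rw [hd, Module.finrank_matrix, Fintype.card_fin] at h
  have hr0 : 0 < r := Nat.pos_of_ne_zero hr.out
  have hΔ1 : Module.finrank k Δ = 1 := by
    have hp : 0 < Module.finrank k Δ := Module.finrank_pos
    have h' : r * r * Module.finrank k Δ ≤ r * r * 1 := by
      rw [← h, mul_one, sq]; exact Nat.mul_le_mul hle hle
    have := Nat.le_of_mul_le_mul_left h' (Nat.mul_pos hr0 hr0)
    omega
  have hbij : Function.Bijective (Algebra.ofId k Δ) :=
    ⟨(algebraMap k Δ).injective, (LinearMap.injective_iff_surjective_of_finrank_eq_finrank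
      (f := (Algebra.ofId k Δ).toLinearMap) (by rw [Module.finrank_self, hΔ1])).1 (algebraMap k Δ).injective⟩
  exact ⟨1, r, one_ne_zero, hr.out, ⟨(matOne k D).trans (f.trans (AlgEquiv.ofBijective (Algebra.ofId k Δ) hbij).mapMatrix.symm)⟩⟩

variable {k : Type u} [Field k] {K : Type v} [Field K] [Algebra k K] [FiniteDimensional k K] [IsGalois k K]
  {σ : K ≃ₐ[k] K} {A : Type w} [Ring A] [Algebra k A]

/-- The idempotents of `K ⊗ K`. -/
theorem exists_galois_idempotents (hσ : ∀ τ : K ≃ₐ[k] K, τ ∈ Subgroup.zpowers σ) :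
    ∃ e : (K ≃ₐ[k] K) → K ⊗[k] K, (∀ τ, e τ * e τ = e τ) ∧ (∀ τ, e τ ≠ 0) ∧
      (∀ τ τ', τ ≠ τ' → e τ * e τ' = 0) ∧
      ∀ τ, Algebra.TensorProduct.map σ.toAlgHom σ.toAlgHom (e τ) = e τ := by
  classical
  let Φ : K ⊗[k] K →ₐ[K] ((K ≃ₐ[k] K) → K) :=
    Algebra.TensorProduct.lift (Algebra.ofId K _) (AlgHom.pi fun τ : K ≃ₐ[k] K => τ.toAlgHom) fun _ _ => Commute.all _ _
  have hΦ : ∀ (a b : K) (τ : K ≃ₐ[k] K), Φ (a ⊗ₜ[k] b) τ = a * τ b := fun a b τ => by simp [Φ]
  let B := Module.finBasis k K
  have hinj : Function.Injective Φ := by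
    refine (LinearMap.ker_eq_bot (f := Φ.toLinearMap)).1 (LinearMap.ker_eq_bot'.2 fun z hz => ?_)
    let P := Algebra.TensorProduct.basis K B
    have hz' : ∀ τ : K ≃ₐ[k] K, ∑ i, P.repr z i * τ (B i) = 0 := fun τ => by
      have h := congrFun hz τ
      rw [← P.sum_repr z] at h
      simpa [P, map_sum, hΦ] using h
    -- independence of characters: the matrix `(τ (B i))` is invertible
    have hindep := (linearIndependent_monoidHom K K).comp
      (fun σ : K ≃ₐ[k] K => (σ : K →* K)) (fun σ τ h => AlgEquiv.ext fun x => DFunLike.congr_fun h x)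
    by_contra hne
    let g : (Fin (Module.finrank k K) → K) →ₗ[K] ((K ≃ₐ[k] K) → K) :=
      { toFun := fun c τ => ∑ i, c i * τ (B i)
        map_add' := fun c d => funext fun τ => by simp [add_mul, Finset.sum_add_distrib]
        map_smul' := fun r c => funext fun τ => by simp [Finset.mul_sum, mul_assoc] }
    let g' : ((K ≃ₐ[k] K) → K) →ₗ[K] (Fin (Module.finrank k K) → K) :=
      { toFun := fun c i => ∑ τ, c τ * τ (B i)
        map_add' := fun c d => funext fun i => by simp [add_mul, Finset.sum_add_distrib]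
        map_smul' := fun r c => funext fun i => by simp [Finset.mul_sum, mul_assoc] }
    have hcard : Fintype.card (K ≃ₐ[k] K) = Module.finrank k K := by
      rw [← Nat.card_eq_fintype_card, IsGalois.card_aut_eq_finrank]
    have hg' : Function.Injective g' := by
      refine LinearMap.ker_eq_bot.1 (LinearMap.ker_eq_bot'.2 fun c hc => ?_)
      refine funext (Fintype.linearIndependent_iff.1 hindep c (funext fun x => ?_))
      have hx : ∀ τ : K ≃ₐ[k] K, τ x = ∑ i, algebraMap k K (B.repr x i) * τ (B i) := fun τ => by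
        conv_lhs => rw [← B.sum_repr x]
        simp [map_sum, Algebra.smul_def]
      simp only [Function.comp_apply, Finset.sum_apply, Pi.smul_apply, smul_eq_mul, MonoidHom.coe_coe, hx,
        Finset.mul_sum, Pi.zero_apply]
      rw [Finset.sum_comm]
      refine Finset.sum_eq_zero fun i _ => ?_
      calc ∑ τ : K ≃ₐ[k] K, c τ * (algebraMap k K (B.repr x i) * τ (B i))
          = algebraMap k K (B.repr x i) * g' c i := by
            show _ = _ * ∑ τ, c τ * τ (B i)
            rw [Finset.mul_sum]; exact Finset.sum_congr rfl fun τ _ => by ring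
        _ = 0 := by rw [congrFun hc i]; simp
    have hg's : Function.Surjective g' :=
      (LinearMap.injective_iff_surjective_of_finrank_eq_finrank (by simp [hcard])).1 hg'
    apply hne
    refine P.repr.injective (Finsupp.ext fun j => ?_)
    obtain ⟨c, hc⟩ := hg's (Pi.single j 1)
    have h0 : ∑ τ, c τ * ∑ i, P.repr z i * τ (B i) = P.repr z j := by
      simp only [Finset.mul_sum]
      rw [Finset.sum_comm]
      calc ∑ i, ∑ τ, c τ * (P.repr z i * τ (B i)) = ∑ i, P.repr z i * g' c i := by
            refine Finset.sum_congr rfl fun i _ => ?_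
            show _ = _ * ∑ τ, c τ * τ (B i)
            rw [Finset.mul_sum]; exact Finset.sum_congr rfl fun τ _ => by ring
        _ = _ := by rw [hc]; simp [Pi.single_apply]
    simp only [hz', mul_zero, Finset.sum_const_zero] at h0
    simp [← h0]
  have hsurj : Function.Surjective Φ :=
    (LinearMap.injective_iff_surjective_of_finrank_eq_finrank (f := Φ.toLinearMap) (by
      rw [Module.finrank_baseChange, Module.finrank_pi, ← Nat.card_eq_fintype_card, IsGalois.card_aut_eq_finrank])).1 hinj
  choose e he using fun τ : K ≃ₐ[k] K => hsurj (Pi.single τ 1)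
  refine ⟨e, fun τ => hinj ?_, fun τ h => ?_, fun τ τ' h => hinj ?_, fun τ => hinj ?_⟩
  · rw [map_mul, he, ← Pi.single_mul, one_mul]
  · have := congrFun (he τ) τ
    rw [h, map_zero, Pi.single_eq_same] at this
    exact zero_ne_one this
  · rw [map_mul, he, he, map_zero]
    funext i
    rcases eq_or_ne i τ with rfl | hi
    · rw [Pi.mul_apply, Pi.single_eq_of_ne h, mul_zero]; rfl
    · rw [Pi.mul_apply, Pi.single_eq_of_ne hi, zero_mul]; rfl
  · have hcomm : ∀ τ' : K ≃ₐ[k] K, τ' * σ = σ * τ' := fun τ' => by
      obtain ⟨n, rfl⟩ := hσ τ'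
      exact ((Commute.refl σ).zpow_left n).eq
    have key : ∀ z τ', Φ (Algebra.TensorProduct.map σ.toAlgHom σ.toAlgHom z) τ' = σ (Φ z τ') := by
      intro z τ'
      induction z using TensorProduct.induction_on with
      | zero => simp
      | tmul a b =>
        simp only [Algebra.TensorProduct.map_tmul, AlgEquiv.coe_toAlgHom, hΦ, map_mul]
        exact congrArg (σ a * ·) (AlgEquiv.congr_fun (hcomm τ') b)
      | add p q hp hq => simp only [map_add, Pi.add_apply, hp, hq]
    funext τ'
    rw [key, he]
    simp [Pi.single_apply, apply_ite σ]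

/-- `(K, σ, b) ⊗ (K, σ, b') ∼ (K, σ, b b')`. -/
theorem CyclicPres.sim_tensor (hσ : ∀ τ : K ≃ₐ[k] K, τ ∈ Subgroup.zpowers σ) {b b' : kˣ}
    {A' : Type x} [Ring A'] [Algebra k A'] {A'' : Type*} [Ring A''] [Algebra k A'']
    (P : CyclicPres k K σ b A) (P' : CyclicPres k K σ b' A') (Q : CyclicPres k K σ (b * b') A'') :
    Sim k (A ⊗[k] A') A'' := by
  classical
  have := P.finite
  have := P'.finite
  have := Q.finite
  have := P.nontrivial
  have := Q.nontrivial
  have := P.isCentral hσ
  have := P.isSimpleRing hσ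
  have := P'.isCentral hσ
  have := P'.isSimpleRing hσ
  have := Q.isCentral hσ
  have := Q.isSimpleRing hσ
  have := isCentral_tensor k A A'
  have := isSimpleRing_tensor_left k A A'
  obtain ⟨f, hfι, hfy⟩ := Q.exists_algHom
    (Algebra.TensorProduct.includeRight.comp P'.ι) (P.y ⊗ₜ[k] P'.y)
    (by rw [Algebra.TensorProduct.tmul_pow, P.pow_eq, P'.pow_eq, Units.val_mul, map_mul]
        rw [Algebra.TensorProduct.algebraMap_apply, Algebra.TensorProduct.algebraMap_apply,
          Algebra.TensorProduct.tmul_mul_tmul, mul_one, ← Algebra.smul_def, Algebra.algebraMap_eq_smul_one,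
          Algebra.algebraMap_eq_smul_one, ← TensorProduct.smul_tmul, smul_smul]
        simp [mul_comm, Algebra.smul_def, ← map_mul])
    (fun x => by simp [Algebra.TensorProduct.tmul_mul_tmul, P'.comm])
  let B := f.range
  have hfinj : Function.Injective f := RingHom.injective f.toRingHom
  let eB : A'' ≃ₐ[k] B := AlgEquiv.ofInjective f hfinj
  have : IsSimpleRing B := isSimpleRing_of_algEquiv k eB
  have : Algebra.IsCentral k B := isCentral_of_algEquiv k eB
  let D := Subalgebra.centralizer k (B : Set (A ⊗[k] A'))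
  obtain ⟨hDs, hDd⟩ := centralizer_isSimpleRing_and_finrank k B
  have hbij := tensor_centralizer_bijective k B
  have : Algebra.IsCentral k D := ⟨fun d hd => by
    have hd' : (d : A ⊗[k] A') ∈ Subalgebra.center k (A ⊗[k] A') := by
      refine Subalgebra.mem_center_iff.2 fun z => ?_
      obtain ⟨t, rfl⟩ := hbij.2 z
      induction t using TensorProduct.induction_on with
      | zero => simp
      | add p q hp hq => rw [map_add, add_mul, mul_add, hp, hq]
      | tmul p q =>
        simp only [Algebra.TensorProduct.lift_tmul, Subalgebra.coe_val]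
        have h1 := (Subalgebra.mem_centralizer_iff _).1 d.2 _ p.2
        have h2 := congrArg Subtype.val (Subalgebra.mem_center_iff.1 hd q)
        simp only [MulMemClass.coe_mul] at h2
        rw [mul_assoc, h2, ← mul_assoc, h1, mul_assoc]
    rw [Algebra.IsCentral.center_eq_bot] at hd'
    obtain ⟨r, hr⟩ := Algebra.mem_bot.1 hd'
    exact Algebra.mem_bot.2 ⟨r, Subtype.ext hr⟩⟩
  obtain ⟨e, he, hne, horth, hfix⟩ := exists_galois_idempotents (k := k) (σ := σ) hσ
  let ψ : K ⊗[k] K →ₐ[k] A ⊗[k] A' := Algebra.TensorProduct.map P.ι P'.ι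
  have hψinj : Function.Injective ψ :=
    TensorProduct.map_injective_of_flat_flat P.ι.toLinearMap P'.ι.toLinearMap
      (RingHom.injective P.ι.toRingHom) (RingHom.injective P'.ι.toRingHom)
  have hmem : ∀ τ, ψ (e τ) ∈ D := by
    intro τ
    refine (Subalgebra.mem_centralizer_iff _).2 ?_
    rintro _ ⟨a, rfl⟩
    have ha : a ∈ Algebra.adjoin k (Set.range Q.ι ∪ {Q.y}) := Q.gen ▸ trivial
    have hY : ∀ z, ψ z * (P.y ⊗ₜ[k] P'.y) =
        (P.y ⊗ₜ[k] P'.y) * ψ (Algebra.TensorProduct.map σ.toAlgHom σ.toAlgHom z) := fun z => by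
      induction z using TensorProduct.induction_on with
      | zero => simp
      | tmul p q => simp [ψ, Algebra.TensorProduct.tmul_mul_tmul, P.comm, P'.comm]
      | add p q hp hq => simp only [map_add, add_mul, mul_add, hp, hq]
    show f a * ψ (e τ) = ψ (e τ) * f a
    induction ha using Algebra.adjoin_induction with
    | mem a ha =>
      rcases ha with ⟨x, rfl⟩ | rfl
      · rw [hfι]
        rw [show (Algebra.TensorProduct.includeRight.comp P'.ι : K →ₐ[k] A ⊗[k] A') x = ψ (1 ⊗ₜ[k] x) by simp [ψ],
          ← map_mul, ← map_mul, mul_comm]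
      · rw [hfy, hY, hfix]
    | algebraMap r => rw [AlgHom.commutes, Algebra.commutes]
    | add p q _ _ hp hq => rw [map_add, add_mul, mul_add, hp, hq]
    | mul p q _ _ hp hq => rw [map_mul, mul_assoc, hq, ← mul_assoc, hp, mul_assoc]
  have hcard : Fintype.card (K ≃ₐ[k] K) = Module.finrank k K := by
    rw [← Nat.card_eq_fintype_card, IsGalois.card_aut_eq_finrank]
  have hdimD : Module.finrank k D = Fintype.card (K ≃ₐ[k] K) ^ 2 := by
    rw [Module.finrank_tensorProduct, P.dim, P'.dim, ← eB.toLinearEquiv.finrank_eq, Q.dim] at hDd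
    rw [hcard]
    exact (Nat.eq_of_mul_eq_mul_left (pow_pos Module.finrank_pos 2) hDd).symm
  have : IsSimpleRing D := hDs
  have hsimD : Sim k D k := sim_of_idempotents D hdimD (fun τ => ⟨ψ (e τ), hmem τ⟩)
    (fun τ => Subtype.ext (by show ψ (e τ) * ψ (e τ) = ψ (e τ); rw [← map_mul, he]))
    (fun τ h => hne τ (hψinj (by rw [map_zero]; exact congrArg Subtype.val h)))
    (fun τ τ' h => Subtype.ext (by show ψ (e τ) * ψ (e τ') = 0; rw [← map_mul, horth τ τ' h, map_zero]))
  exact ((Sim.of_algEquiv (AlgEquiv.ofBijective _ hbij).symm).trans (hsimD.tensor_left B)).trans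
    (.of_algEquiv ((Algebra.TensorProduct.rid k k B).trans eB.symm))

variable {b : kˣ} (P : CyclicPres k K σ b A)
include P

/-- A cyclic algebra is split exactly when its parameter is a norm. -/
theorem CyclicPres.sim_self_iff (hσ : ∀ τ : K ≃ₐ[k] K, τ ∈ Subgroup.zpowers σ) :
    Sim k A k ↔ ∃ x : K, Algebra.norm k x = (b : k) := by
  classical
  have := P.finite
  have := P.isCentral hσ
  have := P.isSimpleRing hσ
  have hord : orderOf σ = Module.finrank k K := by
    rw [orderOf_eq_card_of_forall_mem_zpowers hσ, IsGalois.card_aut_eq_finrank]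
  have hnorm : ∀ x : K, algebraMap k K (Algebra.norm k x) =
      ∏ j ∈ Finset.range (Module.finrank k K), (σ⁻¹ ^ j) x := by
    intro x
    rw [Algebra.norm_eq_prod_automorphisms]
    have hσ' : ∀ τ : K ≃ₐ[k] K, τ ∈ Subgroup.zpowers σ⁻¹ := fun τ => by rw [Subgroup.zpowers_inv]; exact hσ τ
    rw [← IsCyclic.image_range_orderOf hσ', Finset.prod_image, orderOf_inv, hord]
    intro i hi j hj hij
    exact pow_injOn_Iio_orderOf (by simpa using hi) (by simpa using hj) hij
  constructor
  · intro h
    have : Nontrivial A := P.nontrivial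
    have : Nonempty (Fin (Module.finrank k K)) := ⟨⟨0, Module.finrank_pos⟩⟩
    obtain ⟨g⟩ := (h.trans (Sim.matrix (k := k) Module.finrank_pos.ne' k).symm : Sim k A
      (Matrix (Fin (Module.finrank k K)) (Fin (Module.finrank k K)) k)).nonempty_algEquiv (by
        have : Nonempty (Fin (Module.finrank k K)) := ⟨⟨0, Module.finrank_pos⟩⟩
        rw [P.dim, Module.finrank_matrix, Module.finrank_self, Fintype.card_fin, mul_one, sq])
    let ρ : A →ₐ[k] Module.End k (Fin (Module.finrank k K) → k) :=
      (Matrix.toLinAlgEquiv' (R := k)).toAlgHom.comp g.toAlgHom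
    letI : Module K (Fin (Module.finrank k K) → k) := Module.compHom _ (ρ.comp P.ι).toRingHom
    have hsm : ∀ (z : K) v, z • v = ρ (P.ι z) v := fun z v => rfl
    have : IsScalarTower k K (Fin (Module.finrank k K) → k) := ⟨fun r z v => by
      rw [hsm, hsm, map_smul, map_smul]; rfl⟩
    have : FiniteDimensional K (Fin (Module.finrank k K) → k) := Module.Finite.of_restrictScalars_finite k K _
    have h1 : Module.finrank K (Fin (Module.finrank k K) → k) = 1 := by
      have h := Module.finrank_mul_finrank k K (Fin (Module.finrank k K) → k)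
      simp only [Module.finrank_pi, Fintype.card_fin] at h
      exact Nat.eq_of_mul_eq_mul_left (Module.finrank_pos (R := k) (M := K)) (by rw [h, mul_one])
    obtain ⟨v₀, hv₀, hall⟩ := finrank_eq_one_iff'.1 h1
    obtain ⟨x, hx⟩ := hall (ρ P.y v₀)
    refine ⟨x, (algebraMap k K).injective ?_⟩
    rw [hnorm]
    have key : ∀ i : ℕ, ρ (P.y ^ i) v₀ = (∏ j ∈ Finset.range i, (σ⁻¹ ^ j) x) • v₀ := by
      intro i
      induction i with
      | zero => simp
      | succ i ih =>
        rw [pow_succ', map_mul, Module.End.mul_apply, ih, hsm, ← Module.End.mul_apply, ← map_mul,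
          show P.y * P.ι (∏ j ∈ Finset.range i, (σ⁻¹ ^ j) x) =
            P.ι (σ⁻¹ (∏ j ∈ Finset.range i, (σ⁻¹ ^ j) x)) * P.y from by
              simpa using P.pow_comm 1 (∏ j ∈ Finset.range i, (σ⁻¹ ^ j) x),
          map_mul, Module.End.mul_apply, ← hx, ← hsm, smul_smul, Finset.prod_range_succ', map_prod, pow_zero,
          AlgEquiv.one_apply]
        congr 2
        exact Finset.prod_congr rfl fun j _ => by rw [pow_succ', AlgEquiv.mul_apply]
    have := key (Module.finrank k K)
    rw [P.pow_eq, AlgHom.commutes, Module.algebraMap_end_apply, ← algebraMap_smul K] at this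
    exact smul_left_injective K hv₀ this.symm
  · rintro ⟨x, hx⟩
    let Y : Module.End k K :=
      { toFun := fun v => x * σ⁻¹ v
        map_add' := fun p q => by rw [map_add, mul_add]
        map_smul' := fun r p => by rw [map_smul, RingHom.id_apply, mul_smul_comm] }
    have hY : ∀ (i : ℕ) v, (Y ^ i) v = (∏ j ∈ Finset.range i, (σ⁻¹ ^ j) x) * (σ⁻¹ ^ i) v := by
      intro i
      induction i with
      | zero => simp
      | succ i ih =>
        intro v
        rw [pow_succ', Module.End.mul_apply, ih]
        show x * σ⁻¹ _ = _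
        rw [map_mul, map_prod, Finset.prod_range_succ', pow_zero, AlgEquiv.one_apply, pow_succ', AlgEquiv.mul_apply,
          ← mul_assoc, mul_comm x]
        congr 2
        exact Finset.prod_congr rfl fun j _ => by rw [pow_succ', AlgEquiv.mul_apply]
    obtain ⟨g, -, -⟩ := P.exists_algHom (Algebra.lmul k K) Y (LinearMap.ext fun v => by
      rw [hY, ← hnorm, hx, ← hord, ← orderOf_inv σ, pow_orderOf_eq_one, AlgEquiv.one_apply]
      simp [Algebra.smul_def]) (fun z => LinearMap.ext fun v => by
      show z * (x * σ⁻¹ v) = x * σ⁻¹ (σ z * v)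
      rw [map_mul, show σ⁻¹ (σ z) = z from σ.symm_apply_apply z]
      ring)
    have hinj : Function.Injective g := RingHom.injective g.toRingHom
    have hsurj := (LinearMap.injective_iff_surjective_of_finrank_eq_finrank (f := g.toLinearMap) (by
      rw [P.dim, Module.finrank_linearMap, sq])).1 hinj
    exact (Sim.of_algEquiv ((AlgEquiv.ofBijective g ⟨hinj, hsurj⟩).trans
      (LinearMap.toMatrixAlgEquiv (Module.finBasis k K)))).trans (Sim.matrix Module.finrank_pos.ne' k)

end Groth.CSA
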