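import Groth.Agent.CSA.Tpow
import Groth.Agent.GaloisBrauer.PGLDescent
import Groth.Agent.GaloisBrauer.H90GL
import Mathlib.LinearAlgebra.Matrix.Reindex
import Mathlib.LinearAlgebra.Multilinear.Pi
/-! # The degree kills a central simple algebra in the Brauer group -/

universe u v w

open scoped TensorProduct MatrixGroups
attribute [local instance] CSAGal.matrixAction GpH1.unitsAction CSAGal.pglAction CSAGal.tensorAction

namespace Groth.CSA

variable {k : Type u} [Field k] {A : Type v} [Ring A] [Algebra k A]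

theorem finrank_tpow [FiniteDimensional k A] [Algebra.IsCentral k A] [IsSimpleRing A] (n : ℕ) :
    Module.finrank k (CSAGal.tpow k A n) = Module.finrank k A ^ n := by
  induction n with
  | zero => rw [(piEmpty k fun _ : Fin 0 => A).toLinearEquiv.finrank_eq, Module.finrank_self, pow_zero]
  | succ n ih =>
    have := (csa_tpow (k := k) (A := A) n).2.2
    rw [(piSuccConst k A n).toLinearEquiv.finrank_eq, Module.finrank_tensorProduct, ih, pow_succ']

section Kronecker

variable {R : Type w} [CommRing R] {m n : ℕ}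

/-- The Kronecker product of a family of square matrices. -/
def kfam (F : Fin m → Matrix (Fin n) (Fin n) R) : Matrix (Fin m → Fin n) (Fin m → Fin n) R :=
  Matrix.of fun f g => ∏ i, F i (f i) (g i)

theorem kfam_one : kfam (fun _ : Fin m => (1 : Matrix (Fin n) (Fin n) R)) = 1 := by
  ext f g
  simp only [kfam, Matrix.of_apply, Matrix.one_apply]
  by_cases h : f = g
  · subst h; simp
  · obtain ⟨i, hi⟩ := Function.ne_iff.1 h
    rw [if_neg h]
    exact Finset.prod_eq_zero (Finset.mem_univ i) (if_neg hi)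

theorem kfam_mul (F G : Fin m → Matrix (Fin n) (Fin n) R) :
    kfam (fun i => F i * G i) = kfam F * kfam G := by
  ext f g
  simp only [kfam, Matrix.of_apply, Matrix.mul_apply, ← Finset.prod_mul_distrib]
  exact Fintype.prod_sum fun i a => F i (f i) a * G i a (g i)

theorem kfam_map {S : Type*} [CommRing S] (φ : R →+* S) (F : Fin m → Matrix (Fin n) (Fin n) R) :
    (kfam F).map φ = kfam fun i => (F i).map φ := by
  ext f g; simp [kfam]

theorem kfam_smul (c : R) (M : Matrix (Fin n) (Fin n) R) :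
    kfam (fun _ : Fin m => c • M) = c ^ m • kfam fun _ : Fin m => M := by
  ext f g
  simp [kfam, Finset.prod_mul_distrib]

end Kronecker

variable {K : Type w} [Field K] [Algebra k K] [FiniteDimensional k K] [IsGalois k K]

open Groth.GaloisBrauer in
theorem splits_tpow_degree [Algebra.IsCentral k A] [IsSimpleRing A] [FiniteDimensional k A] {n : ℕ} (hn : 0 < n)
    (φ : K ⊗[k] A ≃ₐ[K] Matrix (Fin n) (Fin n) K) : Curves.Splits k (CSAGal.tpow k A n) k := by
  classical
  have hdA : Module.finrank k A = n ^ 2 := by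
    have h := φ.toLinearEquiv.finrank_eq
    rwa [Module.finrank_baseChange, Module.finrank_matrix, Module.finrank_self, Fintype.card_fin, mul_one, ← sq] at h
  -- the projective cocycle
  let e := pglAut (K := K) n
  let a := GalDesc.cocycleAlg k φ.symm
  let c : (K ≃ₐ[k] K) → Matrix.ProjGenLinGroup (Fin n) K := fun σ => e.symm (a σ)
  have hc : ∀ σ τ, c (σ * τ) = c σ * σ • c τ := fun σ τ => e.injective (by
    rw [map_mul, pglAut_smul, e.apply_symm_apply, e.apply_symm_apply, e.apply_symm_apply]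
    exact a.2 σ τ)
  choose g hg using fun σ => Matrix.ProjGenLinGroup.mk_surjective (c σ)
  have hφ : ∀ σ (x : K ⊗[k] A), φ (σ • x) = (g σ : Matrix (Fin n) (Fin n) K) * σ • φ x * ((g σ)⁻¹ : GL (Fin n) K) := by
    intro σ x
    rw [← pglAut_mk, hg, e.apply_symm_apply, GalDesc.cocycleAlg_apply, AlgEquiv.symm_symm, inv_smul_smul,
      φ.symm_apply_apply]
  -- the lifted cocycle
  let N := Fin n → Fin n
  let h : (K ≃ₐ[k] K) → GL N K := fun σ =>
    { val := ((g σ : Matrix (Fin n) (Fin n) K).det)⁻¹ • kfam (fun _ : Fin n => (g σ : Matrix (Fin n) (Fin n) K))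
      inv := (g σ : Matrix (Fin n) (Fin n) K).det • kfam (fun _ : Fin n => ((g σ)⁻¹ : GL (Fin n) K).val)
      val_inv := by
        rw [smul_mul_smul_comm, ← kfam_mul, inv_mul_cancel₀ ((Matrix.isUnit_iff_isUnit_det _).1 (g σ).isUnit).ne_zero,
          one_smul]
        simp [kfam_one]
      inv_val := by
        rw [smul_mul_smul_comm, ← kfam_mul, mul_inv_cancel₀ ((Matrix.isUnit_iff_isUnit_det _).1 (g σ).isUnit).ne_zero,
          one_smul]
        simp [kfam_one] }
  have hmap : ∀ (σ : K ≃ₐ[k] K) (M : Matrix (Fin n) (Fin n) K), σ • M = M.map σ := fun σ M => rfl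
  have hh : ∀ σ τ, (h σ : Matrix N N K) * (h τ : Matrix N N K).map σ = (h (σ * τ) : Matrix N N K) := by
    intro σ τ
    have hrel : Matrix.ProjGenLinGroup.mk (g σ * σ • g τ) = Matrix.ProjGenLinGroup.mk (g (σ * τ)) := by
      rw [map_mul, hg, hg (σ * τ), hc, ← hg τ]
      rfl
    obtain ⟨u, hu⟩ := Matrix.ProjGenLinGroup.mk_eq_mk_iff.1 hrel
    have hu' : (g (σ * τ) : Matrix (Fin n) (Fin n) K) =
        (u : K) • ((g σ : Matrix (Fin n) (Fin n) K) * (g τ : Matrix (Fin n) (Fin n) K).map σ) := by
      rw [← hu, Units.val_mul, Units.val_mul]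
      show _ * Matrix.scalar (Fin n) (u : K) = _
      rw [← (Matrix.scalar_commute (u : K) (fun r => mul_comm _ _) _).eq, Matrix.scalar_apply,
        ← Matrix.smul_eq_diagonal_mul]
      rfl
    show _ • kfam _ * (_ • kfam _).map σ = _ • kfam _
    have hs : ((g τ : Matrix (Fin n) (Fin n) K).det⁻¹ • kfam (fun _ : Fin n => (g τ : Matrix (Fin n) (Fin n) K))).map σ =
        σ (g τ : Matrix (Fin n) (Fin n) K).det⁻¹ • (kfam (fun _ : Fin n => (g τ : Matrix (Fin n) (Fin n) K))).map σ := by
      ext i j; simp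
    have hdet : ((g τ : Matrix (Fin n) (Fin n) K).map σ).det = σ (g τ : Matrix (Fin n) (Fin n) K).det :=
      (RingHom.map_det (σ : K →+* K) _).symm
    have hm := kfam_map (σ : K →+* K) (fun _ : Fin n => (g τ : Matrix (Fin n) (Fin n) K))
    simp only [RingHom.coe_coe] at hm
    rw [hs, hm, smul_mul_smul_comm, ← kfam_mul, hu',
      Matrix.det_smul, Fintype.card_fin, Matrix.det_mul, hdet, kfam_smul, smul_smul, map_inv₀, mul_inv, mul_inv]
    congr 1
    have hu0 : (u : K) ^ n ≠ 0 := pow_ne_zero _ u.ne_zero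
    field_simp
  -- the trivialisation of the tensor power
  let L : A →ₗ[k] Matrix (Fin n) (Fin n) K :=
    ((φ.toAlgHom.restrictScalars k).comp Algebra.TensorProduct.includeRight).toLinearMap
  let entry : Fin n → Fin n → A →ₗ[k] K := fun i j => (Matrix.entryLinearMap k K i j).comp L
  let mm : MultilinearMap k (fun _ : Fin n => A) (Matrix N N K) :=
    MultilinearMap.pi fun f => MultilinearMap.pi fun f' =>
      (MultilinearMap.mkPiAlgebra k (Fin n) K).compLinearMap fun i => entry (f i) (f' i)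
  have hmm : ∀ b, mm b = kfam fun i => φ (1 ⊗ₜ[k] b i) := fun b => rfl
  let Ψ₀ : CSAGal.tpow k A n →ₐ[k] Matrix N N K := PiTensorProduct.liftAlgHom mm
    (by rw [hmm]; simp only [Pi.one_apply, ← Algebra.TensorProduct.one_def, map_one]; exact kfam_one)
    (fun x y => by
      rw [hmm, hmm, hmm, ← kfam_mul]
      congr 1; funext i
      rw [← map_mul, Algebra.TensorProduct.tmul_mul_tmul, one_mul]
      rfl)
  let Ψ₁ : K ⊗[k] CSAGal.tpow k A n →ₐ[K] Matrix N N K :=
    Algebra.TensorProduct.lift (Algebra.ofId K _) Ψ₀ fun r x => Algebra.commutes r (Ψ₀ x)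
  obtain ⟨hc', hs', hf'⟩ := csa_tpow (k := k) (A := A) n
  have := isSimpleRing_baseChange k (CSAGal.tpow k A n) K
  have : Nonempty N := ⟨fun _ => ⟨0, hn⟩⟩
  have hinj : Function.Injective Ψ₁ := RingHom.injective Ψ₁.toRingHom
  have hsurj : Function.Surjective Ψ₁ :=
    (LinearMap.injective_iff_surjective_of_finrank_eq_finrank (f := Ψ₁.toLinearMap) (by
      rw [Module.finrank_baseChange, finrank_tpow, hdA, Module.finrank_matrix, Module.finrank_self,
        Fintype.card_fun, Fintype.card_fin, mul_one, ← mul_pow, sq])).1 hinj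
  let Ψ := AlgEquiv.ofBijective Ψ₁ ⟨hinj, hsurj⟩
  have hΨ : ∀ (σ : K ≃ₐ[k] K) z, Ψ (σ • z) = (h σ : Matrix N N K) * (Ψ z).map σ * ((h σ)⁻¹ : GL N K) := by
    intro σ z
    induction z using TensorProduct.induction_on with
    | zero => simp
    | add p q hp hq => rw [smul_add, map_add, hp, hq, map_add, Matrix.map_add _ (map_add σ), mul_add, add_mul]
    | tmul r x =>
      induction x using PiTensorProduct.induction_on with
      | add p q hp hq =>
        rw [TensorProduct.tmul_add, smul_add, map_add, hp, hq, map_add, Matrix.map_add _ (map_add σ), mul_add, add_mul]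
      | smul_tprod c b =>
        have hval : ∀ s : K, Ψ (s ⊗ₜ[k] (c • PiTensorProduct.tprod k b)) =
            (s * algebraMap k K c) • kfam fun i => φ (1 ⊗ₜ[k] b i) := by
          intro s
          show Ψ₁ (s ⊗ₜ[k] (c • PiTensorProduct.tprod k b)) = _
          rw [← hmm, TensorProduct.tmul_smul, ← algebraMap_smul K c, map_smul]
          show _ • (algebraMap K (Matrix N N K) s * Ψ₀ (PiTensorProduct.tprod k b)) = _
          rw [← Algebra.smul_def, smul_smul, mul_comm]
          congr 1
          exact PiTensorProduct.lift.tprod _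
        rw [TensorProduct.smul_tmul', hval, hval]
        have hb : ∀ i, φ (1 ⊗ₜ[k] b i) = (g σ : Matrix (Fin n) (Fin n) K) * (φ (1 ⊗ₜ[k] b i)).map σ *
            ((g σ)⁻¹ : GL (Fin n) K) := fun i => by
          conv_lhs => rw [show (1 : K) ⊗ₜ[k] b i = σ • ((1 : K) ⊗ₜ[k] b i) by
            rw [TensorProduct.smul_tmul', smul_one], hφ, hmap]
        have hs : ((r * algebraMap k K c) • kfam fun i => φ (1 ⊗ₜ[k] b i)).map σ =
            σ (r * algebraMap k K c) • kfam fun i => (φ (1 ⊗ₜ[k] b i)).map σ := by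
          ext i j
          simp [kfam]
        rw [hs]
        show _ = (_ • kfam _) * _ * (_ • kfam _)
        simp only [Matrix.mul_smul, Matrix.smul_mul, smul_smul, ← kfam_mul]
        rw [← funext hb, AlgEquiv.smul_def]
        congr 1
        rw [map_mul, AlgEquiv.commutes]
        field_simp [((Matrix.isUnit_iff_isUnit_det _).1 (g σ).isUnit).ne_zero]
  -- descend
  have hcard : Fintype.card N = n ^ n := by simp [N]
  let r : N ≃ Fin (n ^ n) := Fintype.equivFinOfCardEq hcard
  let h' : (K ≃ₐ[k] K) → GL (Fin (n ^ n)) K := fun σ =>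
    Units.map (Matrix.reindexAlgEquiv K K r).toRingEquiv.toRingHom.toMonoidHom (h σ)
  obtain ⟨P, hP⟩ := exists_gl_fixed h' fun σ τ => by
    have := congrArg (Matrix.reindexAlgEquiv K K r) (hh σ τ)
    rw [map_mul] at this
    exact this
  let conjP : Matrix (Fin (n ^ n)) (Fin (n ^ n)) K ≃ₐ[K] Matrix (Fin (n ^ n)) (Fin (n ^ n)) K :=
    pglAut (K := K) (n ^ n) (Matrix.ProjGenLinGroup.mk P⁻¹)
  let split : K ⊗[k] Matrix (Fin (n ^ n)) (Fin (n ^ n)) k ≃ₐ[K] Matrix (Fin (n ^ n)) (Fin (n ^ n)) K :=
    (baseChangeMatrix k K k (Fin (n ^ n))).trans (Algebra.TensorProduct.rid k K K).mapMatrix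
  have hsplit : ∀ (σ : K ≃ₐ[k] K) z, split (σ • z) = (split z).map σ := by
    intro σ z
    induction z using TensorProduct.induction_on with
    | zero => simp
    | add p q hp hq => rw [smul_add, map_add, hp, hq, map_add, Matrix.map_add _ (map_add σ)]
    | tmul c M =>
      ext i j
      simp [split, TensorProduct.smul_tmul', baseChangeMatrix, Matrix.uniqueAlgEquiv, map_smul]
  let E₁ := (Ψ.trans (Matrix.reindexAlgEquiv K K r)).trans conjP
  have hE₁ : ∀ (σ : K ≃ₐ[k] K) z, E₁ (σ • z) = (E₁ z).map σ := by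
    intro σ z
    show conjP (Matrix.reindexAlgEquiv K K r (Ψ (σ • z))) = (conjP (Matrix.reindexAlgEquiv K K r (Ψ z))).map σ
    simp only [conjP, pglAut_mk, inv_inv]
    rw [hΨ, map_mul, map_mul]
    have e1 : Matrix.reindexAlgEquiv K K r ((Ψ z).map σ) = (Matrix.reindexAlgEquiv K K r (Ψ z)).map σ := rfl
    have hPσ := hP σ
    have hPe : h' σ * σ • P = P := Units.ext hPσ
    have hh' : h' σ = P * (σ • P)⁻¹ := eq_mul_inv_of_mul_eq hPe
    rw [e1]
    show ((P⁻¹ : GL (Fin (n ^ n)) K) : Matrix _ _ K) * (((h' σ : GL (Fin (n ^ n)) K) : Matrix _ _ K) *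
      (Matrix.reindexAlgEquiv K K r (Ψ z)).map σ * (((h' σ)⁻¹ : GL (Fin (n ^ n)) K) : Matrix _ _ K)) * (P : Matrix _ _ K) = _
    rw [hh', mul_inv_rev, inv_inv, Units.val_mul, Units.val_mul]
    simp only [← mul_assoc, Units.inv_mul, one_mul]
    rw [Units.inv_mul_cancel_right, Matrix.map_mul, Matrix.map_mul]
    rfl
  obtain ⟨f⟩ := exists_descended_algEquiv (E₁.trans split.symm) fun σ z => by
    show split.symm (E₁ (σ • z)) = σ • split.symm (E₁ z)
    apply split.injective
    rw [split.apply_symm_apply, hsplit, split.apply_symm_apply, hE₁]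
  exact ⟨n ^ n, pow_ne_zero _ hn.ne', ⟨(Algebra.TensorProduct.lid k _).trans f⟩⟩

/-- A central simple algebra is killed by its degree. -/
theorem splits_tpow_of_finrank_eq [Algebra.IsCentral k A] [IsSimpleRing A] [FiniteDimensional k A] {n : ℕ}
    (hn : 0 < n) (hd : Module.finrank k A = n ^ 2) : Curves.Splits k (CSAGal.tpow k A n) k := by
  obtain ⟨E, _, _, m, hm, ⟨φ⟩⟩ := exists_galois_splitting k A
  have h := φ.toLinearEquiv.finrank_eq
  rw [Module.finrank_baseChange, hd, Module.finrank_matrix, Module.finrank_self, Fintype.card_fin, mul_one, sq] at h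
  obtain rfl : n = m := Nat.mul_self_inj.1 h
  exact splits_tpow_degree hn φ

end Groth.CSA
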