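import Mathlib.RingTheory.PiTensorProduct
import Mathlib.LinearAlgebra.PiTensorProduct.Basic
import Mathlib.RingTheory.TensorProduct.Maps
import Mathlib.Logic.Equiv.Fin.Basic
/-! # Splitting a finite tensor product of algebras -/

universe u v w x

open scoped TensorProduct

namespace Groth.CSA

variable (k : Type u) [CommRing k]

section

variable {ι : Type w} {ι' : Type x}

/-- Reindexing as an algebra isomorphism. -/
noncomputable def piReindex (A : ι → Type v) [∀ i, Ring (A i)] [∀ i, Algebra k (A i)] (e : ι ≃ ι') :
    (⨂[k] i : ι, A i) ≃ₐ[k] ⨂[k] j : ι', A (e.symm j) :=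
  AlgEquiv.ofLinearEquiv (PiTensorProduct.reindex k A e)
    (by show PiTensorProduct.reindex k A e (PiTensorProduct.tprod k 1) = PiTensorProduct.tprod k 1
        rw [PiTensorProduct.reindex_tprod]; rfl)
    (LinearMap.map_mul_iff _ |>.mpr <| by
      ext f g
      simp only [LinearMap.compMultilinearMap_apply, LinearMap.compr₂_apply, LinearMap.compl₂_apply,
        LinearMap.comp_apply, LinearEquiv.coe_coe, LinearMap.mul_apply', PiTensorProduct.tprod_mul_tprod,
        PiTensorProduct.reindex_tprod]
      rfl)

/-- A family of isomorphisms. -/
noncomputable def piCongr {A : ι → Type v} {B : ι → Type x} [∀ i, Ring (A i)] [∀ i, Algebra k (A i)]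
    [∀ i, Ring (B i)] [∀ i, Algebra k (B i)] (e : ∀ i, A i ≃ₐ[k] B i) :
    (⨂[k] i : ι, A i) ≃ₐ[k] ⨂[k] i : ι, B i :=
  AlgEquiv.ofLinearEquiv (PiTensorProduct.congr fun i => (e i).toLinearEquiv)
    (by show PiTensorProduct.congr _ (PiTensorProduct.tprod k 1) = PiTensorProduct.tprod k 1
        rw [PiTensorProduct.congr_tprod]; congr 1; funext i; exact map_one (e i))
    (LinearMap.map_mul_iff _ |>.mpr <| by
      ext f g
      simp only [LinearMap.compMultilinearMap_apply, LinearMap.compr₂_apply, LinearMap.compl₂_apply,
        LinearMap.comp_apply, LinearEquiv.coe_coe, LinearMap.mul_apply', PiTensorProduct.tprod_mul_tprod,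
        PiTensorProduct.congr_tprod]
      congr 1; funext i; exact map_mul (e i) _ _)

/-- The empty product is the base ring. -/
noncomputable def piEmpty (A : ι → Type v) [∀ i, Ring (A i)] [∀ i, Algebra k (A i)] [IsEmpty ι] :
    (⨂[k] i : ι, A i) ≃ₐ[k] k :=
  AlgEquiv.ofLinearEquiv (PiTensorProduct.isEmptyEquiv ι)
    (PiTensorProduct.isEmptyEquiv_apply_tprod ι _)
    (LinearMap.map_mul_iff _ |>.mpr <| by
      ext f g
      simp [PiTensorProduct.isEmptyEquiv_apply_tprod])

variable (A : Option ι → Type v) [∀ o, Ring (A o)] [∀ o, Algebra k (A o)]

/-- The forward multilinear map of `piOption`. -/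
noncomputable def optionFwd : MultilinearMap k A (A none ⊗[k] (⨂[k] i : ι, A (some i))) where
  toFun f := f none ⊗ₜ[k] PiTensorProduct.tprod k fun i => f (some i)
  map_update_add' := by
    intro _ f o x y
    cases o with
    | none =>
      have h : ∀ z, (fun i => Function.update f none z (some i)) = fun i => f (some i) := fun z =>
        funext fun i => Function.update_of_ne (Option.some_ne_none i) _ _
      simp only [h, Function.update_self, TensorProduct.add_tmul]
    | some j =>
      classical
      have h : ∀ z, (fun i => Function.update f (some j) z (some i)) = Function.update (fun i => f (some i)) j z := by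
        intro z; funext i
        rcases eq_or_ne i j with rfl | hi
        · simp
        · simp [hi]
      simp only [h, Function.update_of_ne (Option.some_ne_none j).symm, MultilinearMap.map_update_add,
        TensorProduct.tmul_add]
  map_update_smul' := by
    intro _ f o c x
    cases o with
    | none =>
      have h : ∀ z, (fun i => Function.update f none z (some i)) = fun i => f (some i) := fun z =>
        funext fun i => Function.update_of_ne (Option.some_ne_none i) _ _
      simp only [h, Function.update_self, TensorProduct.smul_tmul']
    | some j =>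
      classical
      have h : ∀ z, (fun i => Function.update f (some j) z (some i)) = Function.update (fun i => f (some i)) j z := by
        intro z; funext i
        rcases eq_or_ne i j with rfl | hi
        · simp
        · simp [hi]
      simp only [h, Function.update_of_ne (Option.some_ne_none j).symm, MultilinearMap.map_update_smul,
        TensorProduct.tmul_smul]

/-- Extension of a tuple by `1`. -/
def optionExt (f : ∀ i : ι, A (some i)) : ∀ o, A o
  | none => 1
  | some i => f i

theorem optionExt_update [DecidableEq ι] [DecidableEq (Option ι)] (f : ∀ i : ι, A (some i)) (j : ι) (z : A (some j)) :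
    optionExt A (Function.update f j z) = Function.update (optionExt A f) (some j) z := by
  funext o
  cases o with
  | none => simp [optionExt]
  | some i =>
    rcases eq_or_ne i j with rfl | hi
    · simp [optionExt]
    · simp [optionExt, hi]

/-- The backward multilinear map on the `some` part. -/
noncomputable def optionBwd : MultilinearMap k (fun i : ι => A (some i)) (⨂[k] o : Option ι, A o) where
  toFun f := PiTensorProduct.tprod k (optionExt A f)
  map_update_add' := by
    intro _ f j x y
    classical
    simp only [optionExt_update, MultilinearMap.map_update_add]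
  map_update_smul' := by
    intro _ f j c x
    classical
    simp only [optionExt_update, MultilinearMap.map_update_smul]

open Classical in
/-- `⨂_{Option ι} A ≅ A none ⊗ ⨂_ι A`. -/
noncomputable def piOption : (⨂[k] o : Option ι, A o) ≃ₐ[k] A none ⊗[k] (⨂[k] i : ι, A (some i)) :=
  AlgEquiv.ofAlgHom
    (PiTensorProduct.liftAlgHom (optionFwd k A) rfl fun f g => by
      show (f none * g none) ⊗ₜ[k] PiTensorProduct.tprod k (fun i => f (some i) * g (some i)) = _ ⊗ₜ[k] _ * _ ⊗ₜ[k] _
      rw [Algebra.TensorProduct.tmul_mul_tmul, PiTensorProduct.tprod_mul_tprod]
      rfl)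
    (Algebra.TensorProduct.lift (PiTensorProduct.singleAlgHom none)
      (PiTensorProduct.liftAlgHom (optionBwd k A)
        (congrArg (PiTensorProduct.tprod k) (funext fun o => by cases o <;> rfl))
        fun f g => by
          show PiTensorProduct.tprod k (optionExt A (f * g)) =
            PiTensorProduct.tprod k (optionExt A f) * PiTensorProduct.tprod k (optionExt A g)
          rw [PiTensorProduct.tprod_mul_tprod]
          congr 1
          funext o; cases o <;> simp [optionExt])
      fun a z => by
        induction z using PiTensorProduct.induction_on with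
        | smul_tprod r f =>
          rw [map_smul]
          refine Commute.smul_right ?_ r
          simp only [PiTensorProduct.liftAlgHom_apply, PiTensorProduct.lift.tprod, PiTensorProduct.singleAlgHom_apply]
          show PiTensorProduct.tprod k _ * PiTensorProduct.tprod k (optionExt A f) =
            PiTensorProduct.tprod k (optionExt A f) * PiTensorProduct.tprod k _
          rw [PiTensorProduct.tprod_mul_tprod, PiTensorProduct.tprod_mul_tprod]
          congr 1
          funext o; cases o <;> simp [optionExt]
        | add p q hp hq => rw [map_add]; exact hp.add_right hq)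
    (Algebra.TensorProduct.ext
      (AlgHom.ext fun a => by
        simp only [AlgHom.comp_apply, AlgHom.id_apply, Algebra.TensorProduct.includeLeft_apply,
          Algebra.TensorProduct.lift_tmul, map_one, mul_one, PiTensorProduct.singleAlgHom_apply,
          PiTensorProduct.liftAlgHom_apply, PiTensorProduct.lift.tprod]
        show (MonoidHom.mulSingle _ none a : ∀ o, A o) none ⊗ₜ[k] PiTensorProduct.tprod k
          (fun i => (MonoidHom.mulSingle _ none a : ∀ o, A o) (some i)) = _
        simp
        rfl)
      (AlgHom.toLinearMap_injective <| PiTensorProduct.ext <| MultilinearMap.ext fun f => by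
        simp only [LinearMap.compMultilinearMap_apply, AlgHom.toLinearMap_apply, AlgHom.comp_apply,
          AlgHom.coe_restrictScalars', AlgHom.id_apply, Algebra.TensorProduct.includeRight_apply,
          Algebra.TensorProduct.lift_tmul, map_one, one_mul, PiTensorProduct.liftAlgHom_apply,
          PiTensorProduct.lift.tprod]
        show PiTensorProduct.lift (optionFwd k A) (PiTensorProduct.tprod k (optionExt A f)) = _
        rw [PiTensorProduct.lift.tprod]
        rfl))
    (AlgHom.toLinearMap_injective <| PiTensorProduct.ext <| MultilinearMap.ext fun f => by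
      simp only [LinearMap.compMultilinearMap_apply, AlgHom.toLinearMap_apply, AlgHom.comp_apply,
        AlgHom.id_apply, PiTensorProduct.liftAlgHom_apply, PiTensorProduct.lift.tprod]
      show Algebra.TensorProduct.lift _ _ _ (f none ⊗ₜ[k] _) = _
      simp only [Algebra.TensorProduct.lift_tmul, PiTensorProduct.singleAlgHom_apply,
        PiTensorProduct.liftAlgHom_apply, PiTensorProduct.lift.tprod]
      show PiTensorProduct.tprod k _ * PiTensorProduct.tprod k (optionExt A _) = _
      rw [PiTensorProduct.tprod_mul_tprod]
      congr 1
      funext o; cases o <;> simp [optionExt])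

end

/-- `A^{⊗(n+1)} ≅ A ⊗ A^{⊗n}`. -/
noncomputable def piSuccConst (A : Type v) [Ring A] [Algebra k A] (n : ℕ) :
    (⨂[k] _ : Fin (n + 1), A) ≃ₐ[k] A ⊗[k] (⨂[k] _ : Fin n, A) :=
  (piReindex k (fun _ : Fin (n + 1) => A) (finSuccEquiv n)).trans (piOption k fun _ : Option (Fin n) => A)

end Groth.CSA
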