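import Mathlib.Algebra.Central.Defs
import Mathlib.Algebra.Algebra.Opposite
import Mathlib.Algebra.Algebra.Subalgebra.Centralizer
import Mathlib.LinearAlgebra.TensorProduct.Basis
import Mathlib.LinearAlgebra.TensorProduct.RightExactness
import Mathlib.LinearAlgebra.FreeModule.Basic
import Mathlib.LinearAlgebra.Basis.VectorSpace
import Mathlib.Algebra.Central.Basic
import Mathlib.RingTheory.Flat.Basic
import Mathlib.RingTheory.TensorProduct.Nontrivial
import Mathlib.RingTheory.SimpleRing.Basic
import Mathlib.RingTheory.SimpleRing.Congr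
import Mathlib.RingTheory.TensorProduct.Maps
import Mathlib.RingTheory.TwoSidedIdeal.Operations
/-! # Two-sided ideals of tensor products with a central simple algebra -/

universe u v w

open scoped TensorProduct
open Algebra.TensorProduct (includeLeft includeRight)

namespace Groth.CSA

variable (k : Type u) [Field k] {A : Type v} [Ring A] [Algebra k A] {B : Type w} [Ring B] [Algebra k B]

/-- A nonzero set of coordinate vectors over a central simple algebra that is stable under sums and
under left and right multiplication contains a nonzero vector with scalar coordinates. -/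
theorem exists_scalar_vector [Algebra.IsCentral k A] [IsSimpleRing A] {ι : Type*}
    (M : AddSubgroup (ι →₀ A))
    (hl : ∀ (a : A), ∀ m ∈ M, m.mapRange (fun x => a * x) (mul_zero a) ∈ M)
    (hr : ∀ (a : A), ∀ m ∈ M, m.mapRange (fun x => x * a) (zero_mul a) ∈ M)
    {m : ι →₀ A} (hm : m ∈ M) (hm0 : m ≠ 0) :
    ∃ c : ι →₀ k, c ≠ 0 ∧ c.mapRange (algebraMap k A) (map_zero _) ∈ M := by
  classical
  obtain ⟨m, ⟨hm, hm0⟩, hmin⟩ := Nat.lt_wfRel.wf.onFun (f := fun m : ι →₀ A => m.support.card)
    |>.has_min {m | m ∈ M ∧ m ≠ 0} ⟨m, hm, hm0⟩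
  obtain ⟨i, hi⟩ := Finsupp.support_nonempty_iff.2 hm0
  let I : TwoSidedIdeal A :=
    TwoSidedIdeal.mk' {a | ∃ n ∈ M, n.support ⊆ m.support ∧ n i = a}
      ⟨0, M.zero_mem, by simp, rfl⟩
      (by rintro a b ⟨n, hn, hs, rfl⟩ ⟨n', hn', hs', rfl⟩
          exact ⟨n + n', M.add_mem hn hn',
            Finsupp.support_add.trans (Finset.union_subset hs hs'), rfl⟩)
      (by rintro a ⟨n, hn, hs, rfl⟩
          exact ⟨-n, M.neg_mem hn, by rwa [Finsupp.support_neg], rfl⟩)
      (by rintro a b ⟨n, hn, hs, rfl⟩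
          exact ⟨_, hl a n hn, Finsupp.support_mapRange.trans hs, by simp⟩)
      (by rintro a b ⟨n, hn, hs, rfl⟩
          exact ⟨_, hr b n hn, Finsupp.support_mapRange.trans hs, by simp⟩)
  have hI : (1 : A) ∈ I := IsSimpleRing.one_mem_of_ne_zero_mem I (Finsupp.mem_support_iff.1 hi)
    ((TwoSidedIdeal.mem_mk' ..).2 ⟨m, hm, subset_rfl, rfl⟩)
  obtain ⟨n, hn, hs, hni⟩ := (TwoSidedIdeal.mem_mk' ..).1 hI
  have hcen : ∀ j, n j ∈ Subalgebra.center k A := by
    intro j
    rw [Subalgebra.mem_center_iff]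
    intro a
    set d := n.mapRange (fun x => a * x) (mul_zero a) - n.mapRange (fun x => x * a) (zero_mul a) with hd
    have hdM : d ∈ M := M.sub_mem (hl a n hn) (hr a n hn)
    have hdi : d i = 0 := by simp [hd, hni]
    have hd0 : d = 0 := by
      by_contra hne
      refine hmin d ⟨hdM, hne⟩ (Finset.card_lt_card ⟨?_, fun h => ?_⟩)
      · exact Finsupp.support_sub.trans
          (Finset.union_subset (Finsupp.support_mapRange.trans hs) (Finsupp.support_mapRange.trans hs))
      · exact Finsupp.mem_support_iff.1 (h hi) hdi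
    have := DFunLike.congr_fun hd0 j
    simpa [hd, sub_eq_zero] using this
  choose c hc using fun j => (Algebra.IsCentral.mem_center_iff k).1 (hcen j)
  have hsupp : ∀ j, c j ≠ 0 → j ∈ n.support := fun j hj => by
    rw [Finsupp.mem_support_iff, hc]
    exact fun h => hj ((algebraMap k A).injective (h.trans (map_zero _).symm))
  refine ⟨Finsupp.onFinset n.support c hsupp, fun h => ?_, ?_⟩
  · have := DFunLike.congr_fun h i
    rw [Finsupp.onFinset_apply] at this
    have h1 := hc i
    rw [hni, this, Finsupp.coe_zero, Pi.zero_apply, map_zero] at h1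
    exact one_ne_zero h1
  · convert hn using 1
    ext j
    simp [hc]

variable {k}

/-- If `A` is central simple, every two-sided ideal `J` of `A ⊗ B` is `A ⊗ (J ∩ B)`. -/
theorem mem_range_lTensor_comap [Algebra.IsCentral k A] [IsSimpleRing A]
    (J : TwoSidedIdeal (A ⊗[k] B)) (P : Submodule k B)
    (hP : ∀ b : B, b ∈ P ↔ (1 : A) ⊗ₜ[k] b ∈ J) {x : A ⊗[k] B} (hx : x ∈ J) :
    x ∈ LinearMap.range (LinearMap.lTensor A P.subtype) := by
  classical
  let bas := Module.Free.chooseBasis k (B ⧸ P)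
  let q : A ⊗[k] B →ₗ[k] Module.Free.ChooseBasisIndex k (B ⧸ P) →₀ A :=
    (TensorProduct.equivFinsuppOfBasisRight bas).toLinearMap.comp (LinearMap.lTensor A P.mkQ)
  have hql : ∀ (a : A) y, q (a ⊗ₜ[k] 1 * y) = (q y).mapRange (fun z => a * z) (mul_zero a) := by
    intro a y
    induction y using TensorProduct.induction_on with
    | zero => simp
    | tmul a' b' =>
      ext j
      simp [q, TensorProduct.equivFinsuppOfBasisRight_apply_tmul_apply, mul_smul_comm]
    | add y z hy hz => ext j; simp [mul_add, hy, hz]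
  have hqr : ∀ (a : A) y, q (y * a ⊗ₜ[k] 1) = (q y).mapRange (fun z => z * a) (zero_mul a) := by
    intro a y
    induction y using TensorProduct.induction_on with
    | zero => simp
    | tmul a' b' =>
      ext j
      simp [q, TensorProduct.equivFinsuppOfBasisRight_apply_tmul_apply, smul_mul_assoc]
    | add y z hy hz => ext j; simp [add_mul, hy, hz]
  have hker : ∀ y, q y = 0 ↔ y ∈ LinearMap.range (LinearMap.lTensor A P.subtype) := by
    intro y
    simp only [q, LinearMap.comp_apply, LinearEquiv.coe_coe, LinearEquiv.map_eq_zero_iff]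
    exact (lTensor_exact A (LinearMap.exact_subtype_mkQ P) P.mkQ_surjective y)
  have hin : ∀ y ∈ LinearMap.range (LinearMap.lTensor A P.subtype), y ∈ J := by
    rintro _ ⟨z, rfl⟩
    induction z using TensorProduct.induction_on with
    | zero => simpa using J.zero_mem
    | tmul a p =>
      have := J.mul_mem_left (a ⊗ₜ[k] (1 : B)) _ ((hP p).1 p.2)
      rwa [Algebra.TensorProduct.tmul_mul_tmul, mul_one, one_mul] at this
    | add y z hy hz => rw [map_add]; exact J.add_mem hy hz
  rw [← hker]
  by_contra hx0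
  let M : AddSubgroup (Module.Free.ChooseBasisIndex k (B ⧸ P) →₀ A) :=
    { carrier := {m | ∃ y ∈ J, q y = m}
      add_mem' := by
        rintro _ _ ⟨y, hy, rfl⟩ ⟨z, hz, rfl⟩
        exact ⟨y + z, J.add_mem hy hz, map_add ..⟩
      zero_mem' := ⟨0, J.zero_mem, map_zero _⟩
      neg_mem' := by
        rintro _ ⟨y, hy, rfl⟩
        exact ⟨-y, J.neg_mem hy, map_neg ..⟩ }
  obtain ⟨c, hc0, z, hz, hzc⟩ := exists_scalar_vector k M
    (by rintro a _ ⟨y, hy, rfl⟩; exact ⟨_, J.mul_mem_left _ _ hy, hql a y⟩)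
    (by rintro a _ ⟨y, hy, rfl⟩; exact ⟨_, J.mul_mem_right _ _ hy, hqr a y⟩)
    ⟨x, hx, rfl⟩ hx0
  obtain ⟨b, hb⟩ := P.mkQ_surjective (bas.repr.symm c)
  have hqb : q ((1 : A) ⊗ₜ[k] b) = c.mapRange (algebraMap k A) (map_zero _) := by
    ext j
    simp [q, TensorProduct.equivFinsuppOfBasisRight_apply_tmul_apply, ← P.mkQ_apply, hb,
      Algebra.algebraMap_eq_smul_one]
  have hbJ : (1 : A) ⊗ₜ[k] b ∈ J := by
    have hd : (1 : A) ⊗ₜ[k] b - z ∈ J := hin _ ((hker _).1 (by rw [map_sub, hqb, hzc, sub_self]))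
    simpa using J.add_mem hd hz
  have : P.mkQ b = 0 := (Submodule.Quotient.mk_eq_zero _).2 ((hP b).2 hbJ)
  exact hc0 (bas.repr.symm.injective (by rw [← hb, this, map_zero]))

/-- If `A` is central simple, a two-sided ideal of `A ⊗ B` is spanned by its elements `1 ⊗ b`. -/
theorem eq_span_includeRight [Algebra.IsCentral k A] [IsSimpleRing A] (J : TwoSidedIdeal (A ⊗[k] B)) :
    J = TwoSidedIdeal.span ((fun b : B => (1 : A) ⊗ₜ[k] b) '' {b | (1 : A) ⊗ₜ[k] b ∈ J}) := by
  refine le_antisymm (fun x hx => ?_) (TwoSidedIdeal.span_le.2 (by rintro _ ⟨b, hb, rfl⟩; exact hb))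
  let P : Submodule k B :=
    { carrier := {b | (1 : A) ⊗ₜ[k] b ∈ J}
      add_mem' := fun {b c} hb hc => by
        show (1 : A) ⊗ₜ[k] (b + c) ∈ J
        rw [TensorProduct.tmul_add]; exact J.add_mem hb hc
      zero_mem' := by show (1 : A) ⊗ₜ[k] (0 : B) ∈ J; rw [TensorProduct.tmul_zero]; exact J.zero_mem
      smul_mem' := fun r b hb => by
        show (1 : A) ⊗ₜ[k] (r • b) ∈ J
        rw [TensorProduct.tmul_smul, Algebra.smul_def]; exact J.mul_mem_left _ _ hb }
  obtain ⟨z, rfl⟩ := mem_range_lTensor_comap J P (fun b => Iff.rfl) hx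
  clear hx
  induction z using TensorProduct.induction_on with
  | zero => simpa using zero_mem _
  | tmul a p =>
    have := TwoSidedIdeal.mul_mem_left _ (a ⊗ₜ[k] (1 : B)) _
      (TwoSidedIdeal.subset_span (Set.mem_image_of_mem (fun b : B => (1 : A) ⊗ₜ[k] b)
        (p.2 : (p : B) ∈ {b | (1 : A) ⊗ₜ[k] b ∈ J})))
    rwa [Algebra.TensorProduct.tmul_mul_tmul, mul_one, one_mul] at this
  | add y z hy hz => rw [map_add]; exact add_mem hy hz

variable (k A B)

theorem isSimpleRing_of_algEquiv {A : Type v} {B : Type w} [Ring A] [Algebra k A] [Ring B] [Algebra k B]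
    (e : A ≃ₐ[k] B) [IsSimpleRing A] : IsSimpleRing B :=
  IsSimpleRing.of_ringEquiv e.toRingEquiv inferInstance

theorem isSimpleRing_tensor_left [Algebra.IsCentral k A] [IsSimpleRing A] [IsSimpleRing B] :
    IsSimpleRing (A ⊗[k] B) := by
  have : Nontrivial (A ⊗[k] B) :=
    (Algebra.TensorProduct.includeRight_injective (R := k) (A := A) (B := B)
      (algebraMap k A).injective).nontrivial
  refine IsSimpleRing.of_eq_bot_or_eq_top fun J => ?_
  rcases eq_bot_or_eq_top (J.comap (includeRight : B →ₐ[k] A ⊗[k] B)) with h | h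
  · left
    rw [eq_bot_iff, eq_span_includeRight J, TwoSidedIdeal.span_le]
    rintro _ ⟨b, hb, rfl⟩
    have : b ∈ J.comap (includeRight : B →ₐ[k] A ⊗[k] B) := (TwoSidedIdeal.mem_comap _).2 hb
    rw [h, TwoSidedIdeal.mem_bot] at this
    simp [this]
  · right
    have : (1 : B) ∈ J.comap (includeRight : B →ₐ[k] A ⊗[k] B) := h ▸ TwoSidedIdeal.mem_top ..
    exact J.one_mem_iff.1 ((TwoSidedIdeal.mem_comap _).1 this)

theorem isSimpleRing_tensor_right [IsSimpleRing A] [Algebra.IsCentral k B] [IsSimpleRing B] :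
    IsSimpleRing (A ⊗[k] B) :=
  have := isSimpleRing_tensor_left k (A := B) (B := A)
  isSimpleRing_of_algEquiv k (Algebra.TensorProduct.comm k B A)

/-- The centre of `A ⊗ B` is the centre of `B` when `A` is central. -/
theorem mem_center_tensor_iff [Algebra.IsCentral k A] [Nontrivial A] {x : A ⊗[k] B} :
    x ∈ Subalgebra.center k (A ⊗[k] B) ↔ ∃ b ∈ Subalgebra.center k B, x = 1 ⊗ₜ[k] b := by
  constructor
  · intro hx
    have h1 : x ∈ (Algebra.TensorProduct.map (AlgHom.id k A) (Subalgebra.center k B).val).range := by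
      rw [← Subalgebra.centralizer_range_includeRight_eq_center_tensorProduct, Subalgebra.mem_centralizer_iff]
      exact fun y _ => Subalgebra.mem_center_iff.1 hx y
    have h2 : x ∈ (Algebra.TensorProduct.map (Subalgebra.center k A).val (AlgHom.id k B)).range := by
      rw [← Subalgebra.centralizer_coe_range_includeLeft_eq_center_tensorProduct, Subalgebra.mem_centralizer_iff]
      exact fun y _ => Subalgebra.mem_center_iff.1 hx y
    obtain ⟨b, rfl⟩ : ∃ b : B, x = (1 : A) ⊗ₜ[k] b := by
      obtain ⟨z, rfl⟩ := h2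
      clear hx h1
      induction z using TensorProduct.induction_on with
      | zero => exact ⟨0, by simp⟩
      | tmul c b =>
        obtain ⟨r, hr⟩ := (Algebra.IsCentral.mem_center_iff k).1 c.2
        refine ⟨r • b, ?_⟩
        simp [hr, Algebra.algebraMap_eq_smul_one, TensorProduct.smul_tmul]
      | add y z hy hz =>
        obtain ⟨b, hb⟩ := hy; obtain ⟨c, hc⟩ := hz
        exact ⟨b + c, by rw [TensorProduct.tmul_add, ← hb, ← hc]; exact map_add _ y z⟩
    refine ⟨b, Subalgebra.mem_center_iff.2 fun c => ?_, rfl⟩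
    refine Algebra.TensorProduct.includeRight_injective (R := k) (A := A)
      (FaithfulSMul.algebraMap_injective k A) ?_
    simpa using Subalgebra.mem_center_iff.1 hx ((1 : A) ⊗ₜ[k] c)
  · rintro ⟨b, hb, rfl⟩
    rw [Subalgebra.mem_center_iff]
    intro y
    induction y using TensorProduct.induction_on with
    | zero => simp
    | tmul a c => simp [Subalgebra.mem_center_iff.1 hb c]
    | add y z hy hz => rw [add_mul, mul_add, hy, hz]

theorem isCentral_tensor [Algebra.IsCentral k A] [Algebra.IsCentral k B] [Nontrivial A] :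
    Algebra.IsCentral k (A ⊗[k] B) := by
  refine ⟨fun x hx => ?_⟩
  obtain ⟨b, hb, rfl⟩ := (mem_center_tensor_iff k A B).1 hx
  obtain ⟨r, rfl⟩ := (Algebra.IsCentral.mem_center_iff k).1 hb
  exact Algebra.mem_bot.2 ⟨r, by simp [Algebra.algebraMap_eq_smul_one, Algebra.TensorProduct.one_def]⟩

end Groth.CSA
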