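import Groth.Agent.CSA.Similar
import Groth.Agent.CSA.PiTensor
import Groth.Prelude.Def_GSzCSA
/-! # Tensor powers of central simple algebras -/

universe u v w

open scoped TensorProduct

namespace Groth.CSA

variable {k : Type u} [Field k] {A : Type v} [Ring A] [Algebra k A]

theorem csa_of_algEquiv {B : Type w} [Ring B] [Algebra k B] (e : A ≃ₐ[k] B)
    (h : Algebra.IsCentral k A ∧ IsSimpleRing A ∧ FiniteDimensional k A) :
    Algebra.IsCentral k B ∧ IsSimpleRing B ∧ FiniteDimensional k B :=
  haveI := h.1; haveI := h.2.1; haveI := h.2.2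
  ⟨isCentral_of_algEquiv k e, isSimpleRing_of_algEquiv k e, Module.Finite.equiv e.toLinearEquiv⟩

theorem csa_tpow [Algebra.IsCentral k A] [IsSimpleRing A] [FiniteDimensional k A] (n : ℕ) :
    Algebra.IsCentral k (CSAGal.tpow k A n) ∧ IsSimpleRing (CSAGal.tpow k A n) ∧
      FiniteDimensional k (CSAGal.tpow k A n) := by
  induction n with
  | zero => exact csa_of_algEquiv (piEmpty k fun _ : Fin 0 => A).symm ⟨inferInstance, inferInstance, inferInstance⟩
  | succ n ih =>
    obtain ⟨h1, h2, h3⟩ := ih
    refine csa_of_algEquiv (piSuccConst k A n).symm ⟨?_, ?_, inferInstance⟩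
    · exact isCentral_tensor k A (⨂[k] _ : Fin n, A)
    · exact isSimpleRing_tensor_left k A (⨂[k] _ : Fin n, A)

theorem Sim.tpow {B : Type w} [Ring B] [Algebra k B] (h : Sim k A B) (n : ℕ) :
    Sim k (CSAGal.tpow k A n) (CSAGal.tpow k B n) := by
  induction n with
  | zero => exact .of_algEquiv ((piEmpty k fun _ : Fin 0 => A).trans (piEmpty k fun _ : Fin 0 => B).symm)
  | succ n ih =>
    exact ((Sim.of_algEquiv (piSuccConst k A n)).trans (h.tensor ih)).trans (.of_algEquiv (piSuccConst k B n).symm)

theorem sim_tpow_add (a b : ℕ) :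
    Sim k (CSAGal.tpow k A (a + b)) (CSAGal.tpow k A a ⊗[k] CSAGal.tpow k A b) := by
  induction a with
  | zero =>
    rw [Nat.zero_add]
    exact .of_algEquiv ((Algebra.TensorProduct.lid k (CSAGal.tpow k A b)).symm.trans
      (Algebra.TensorProduct.congr (piEmpty k fun _ : Fin 0 => A).symm AlgEquiv.refl))
  | succ a ih =>
    rw [Nat.succ_add]
    exact (Sim.of_algEquiv (piSuccConst k A (a + b))).trans ((ih.tensor_left A).trans
      (.of_algEquiv ((Algebra.TensorProduct.assoc k k k A (CSAGal.tpow k A a) (CSAGal.tpow k A b)).symm.trans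
        (Algebra.TensorProduct.congr (piSuccConst k A a).symm AlgEquiv.refl))))

theorem sim_tpow_mul (a b : ℕ) : Sim k (CSAGal.tpow k A (a * b)) (CSAGal.tpow k (CSAGal.tpow k A a) b) := by
  induction b with
  | zero => exact .of_algEquiv ((piEmpty k fun _ : Fin 0 => A).trans (piEmpty k fun _ : Fin 0 => CSAGal.tpow k A a).symm)
  | succ b ih =>
    rw [Nat.mul_succ]
    exact (sim_tpow_add (a * b) a).trans (((Sim.of_algEquiv (Algebra.TensorProduct.comm k _ _)).trans
      (ih.tensor_left _)).trans (.of_algEquiv (piSuccConst k (CSAGal.tpow k A a) b).symm))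

end Groth.CSA
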